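import Cfsg.Agent.RankThreeInvol.TwoType.Cases

/-!
# Two product orders: the involutions generate a solvable group
-/

set_option autoImplicit false

namespace Cfsg.Agent.RankThreeInvol

open Subgroup

universe u

variable {G : Type u} [Group G] [Finite G] {K : Subgroup G}

theorem OddTwo.exists_invol_map (hK : OddTwo K) {N : Subgroup G} [N.Normal] (hNK : N ≤ K)
    {a : G ⧸ N} (ha : a ∈ invols (G ⧸ N)) :
    ∃ d ∈ invols G, QuotientGroup.mk' N d = a := by
  obtain ⟨g, rfl⟩ := QuotientGroup.mk'_surjective N a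
  have hg2 : g * g ∈ N := (QuotientGroup.eq_one_iff _).1 (by
    rw [QuotientGroup.mk_mul]; exact Invol.mul_self_eq_one ha)
  have hgK : g ∉ K := fun hgK => by
    have h1 := (hK.odd_order hgK).of_dvd_nat (orderOf_map_dvd (QuotientGroup.mk' N) g)
    rw [show orderOf (QuotientGroup.mk' N g) = 2 from ha] at h1
    exact absurd h1 (by decide)
  obtain ⟨m, hm⟩ := hK.odd_order (hNK hg2)
  refine ⟨g * (g * g) ^ m, ?_, ?_⟩
  · show orderOf (g * (g * g) ^ m) = 2
    refine Invol.orderOf_eq_two_iff.2 ⟨fun he => hgK ?_, ?_⟩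
    · rw [mul_eq_one_iff_eq_inv.1 he]
      exact inv_mem (pow_mem (hNK hg2) m)
    · have hc : Commute g ((g * g) ^ m) := ((Commute.refl g).mul_right (Commute.refl g)).pow_right m
      calc g * (g * g) ^ m * (g * (g * g) ^ m) = g * g * ((g * g) ^ m * (g * g) ^ m) := by
            rw [mul_assoc, ← mul_assoc ((g * g) ^ m) g, ← hc.eq]
            simp only [mul_assoc]
        _ = (g * g) ^ (2 * m + 1) := by rw [← pow_add, ← pow_succ']; congr 1; omega
        _ = 1 := by rw [← hm, pow_orderOf_eq_one]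
  · rw [map_mul, map_pow]
    have h1 : QuotientGroup.mk' N (g * g) = 1 := (QuotientGroup.eq_one_iff _).2 hg2
    rw [h1, one_pow, mul_one]

theorem Hyp.quotient {p r : ℕ} (h : Hyp K p r) {N : Subgroup G} [N.Normal] (hNK : N ≤ K) :
    Hyp (K.map (QuotientGroup.mk' N)) p r ∧
      invols (G ⧸ N) = QuotientGroup.mk' N '' invols G := by
  set f := QuotientGroup.mk' N
  have hinv : invols (G ⧸ N) = f '' invols G := by
    ext a
    constructor
    · intro ha
      obtain ⟨d, hd, he⟩ := h.toOddTwo.exists_invol_map hNK ha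
      exact ⟨d, hd, he⟩
    · rintro ⟨d, hd, rfl⟩
      refine Invol.orderOf_eq_two_iff.2
        ⟨fun he => h.notMem hd (hNK ((QuotientGroup.eq_one_iff d).1 he)), ?_⟩
      rw [← map_mul, Invol.mul_self_eq_one hd, map_one]
  refine ⟨⟨⟨h.normal.map f (QuotientGroup.mk'_surjective N), ?_, ?_⟩, h.pprime, h.rprime, h.pr,
    h.pTwo, h.rTwo, ?_, ?_⟩, hinv⟩
  · rw [index_map_eq _ (QuotientGroup.mk'_surjective N) (by rwa [QuotientGroup.ker_mk']), h.index]
  · exact h.odd.of_dvd_nat (card_map_dvd K f)
  · rw [hinv]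
    rintro _ ⟨a, ha, rfl⟩ _ ⟨b, hb, rfl⟩ hne
    have hab : a ≠ b := fun he => hne (he ▸ rfl)
    rw [← map_mul]
    have hd := orderOf_map_dvd f (a * b)
    have hne1 : orderOf (f (a * b)) ≠ 1 := by
      rw [Ne, orderOf_eq_one_iff, map_mul]
      exact fun he => hne ((mul_eq_one_iff_eq_inv.1 he).trans (by
        rw [← map_inv, Invol.inv_eq_self hb]))
    rcases h.order a ha b hb hab with ho | ho <;> rw [ho] at hd
    · exact Or.inl ((Nat.dvd_prime h.pprime).1 hd |>.resolve_left hne1)
    · exact Or.inr ((Nat.dvd_prime h.rprime).1 hd |>.resolve_left hne1)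
  · rw [hinv]
    rintro _ ⟨a, ha, rfl⟩ _ ⟨b, hb, rfl⟩ _ ⟨b', hb', rfl⟩ hne hne' ho
    have key : ∀ c ∈ invols G, f a ≠ f c → orderOf (f a * f c) = orderOf (a * c) := by
      intro c hc hac
      have hne1 : orderOf (f (a * c)) ≠ 1 := by
        rw [Ne, orderOf_eq_one_iff, map_mul]
        exact fun he => hac ((mul_eq_one_iff_eq_inv.1 he).trans (by
          rw [← map_inv, Invol.inv_eq_self hc]))
      have hd := orderOf_map_dvd f (a * c)
      rw [← map_mul]
      rcases h.order a ha c hc (fun he => hac (he ▸ rfl)) with ho1 | ho1 <;> rw [ho1] at hd ⊢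
      · exact (Nat.dvd_prime h.pprime).1 hd |>.resolve_left hne1
      · exact (Nat.dvd_prime h.rprime).1 hd |>.resolve_left hne1
    rw [key b hb hne, key b' hb' hne'] at ho
    obtain ⟨g, hg, hgb⟩ := h.trans a ha b hb b' hb' (fun he => hne (he ▸ rfl))
      (fun he => hne' (he ▸ rfl)) ho
    exact ⟨f g, hg.map f, by rw [← map_inv, ← map_mul, ← map_mul, hgb]⟩

/-- If all products of distinct involutions have the same odd prime order, they generate a solvable
group. -/
theorem OddTwo.solvable_of_one_order (hK : OddTwo K) {q : ℕ} (hq : q.Prime) (hq2 : q ≠ 2)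
    (hall : ∀ a ∈ invols G, ∀ b ∈ invols G, a ≠ b → orderOf (a * b) = q) :
    Group.IsSolvable ↥(closure (invols G)) := by
  set M := closure (invols G)
  rcases (invols G).eq_empty_or_nonempty with he | ⟨x, hx⟩
  · have hM : M = ⊥ := by simp [M, he]
    exact Group.isSolvable_of_comm fun a b => by
      have ha : (a : G) = 1 := by rw [← mem_bot, ← hM]; exact a.2
      have hb : (b : G) = 1 := by rw [← mem_bot, ← hM]; exact b.2
      exact Subtype.ext (by simp [ha, hb])
  let x' : M := ⟨x, subset_closure hx⟩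
  have hinv : ∀ a ∈ conjugatesOf x', (a : G) ∈ invols G := by
    intro a ha
    obtain ⟨g, rfl⟩ := isConj_iff.1 ha
    exact OddTwo.conj_mem hx g
  have hmem : ∀ (a : G) (ha : a ∈ invols G), (⟨a, subset_closure ha⟩ : M) ∈ conjugatesOf x' :=
    fun a ha => isConj_iff.2 ⟨⟨mid x a, mid_mem_subgroup x'.2 (subset_closure ha)⟩,
      Subtype.ext (hK.mid_conj' hx ha)⟩
  have hgen : closure (conjugatesOf x') = ⊤ := by
    refine eq_top_iff.2 fun a _ => ?_
    have hle : M ≤ (closure (conjugatesOf x')).map M.subtype :=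
      (closure_le _).2 fun b hb => ⟨_, subset_closure (hmem b hb), rfl⟩
    obtain ⟨b, hb, he⟩ := hle a.2
    exact Subtype.ext he ▸ hb
  have hnil := S1618.result q hq hq2 (D := conjugatesOf x')
    (fun a ha => (orderOf_submonoid a).symm.trans (hinv a ha)) ⟨x', mem_conjugatesOf_self, rfl⟩ hgen
    (fun a ha b hb hne => ⟨1, by
      rw [pow_one, ← orderOf_submonoid]
      exact hall _ (hinv a ha) _ (hinv b hb) fun he => hne (Subtype.ext he)⟩)
  have h1 : Group.IsSolvable (commutator M) := inferInstance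
  exact Group.isSolvable_of_ker_le_range (commutator M).subtype Abelianization.of
    (by rw [Abelianization.ker_of, range_subtype])

theorem Hyp.symm_types {p r : ℕ} (h : Hyp K p r) {x : G} (hx : x ∈ invols G)
    (hno : ∀ y ∈ invols G, orderOf (x * y) ≠ p) :
    ∀ a ∈ invols G, ∀ b ∈ invols G, a ≠ b → orderOf (a * b) = r := by
  intro a ha b hb hne
  refine (h.order a ha b hb hne).resolve_left fun ho => ?_
  obtain ⟨g, -, hg⟩ := h.exists_conj ha hx
  refine hno (g * b * g⁻¹) (OddTwo.conj_mem hb g) ?_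
  rw [← hg, orderOf_mul_img, ho]

/-- Two possible product orders, with transitivity: the involutions generate a solvable group. -/
theorem solvable_of_hyp : ∀ (G : Type u) [Group G] [Finite G] (K : Subgroup G) (p r : ℕ),
    Hyp K p r → Group.IsSolvable ↥(closure (invols G)) := by
  intro G _ _
  induction hn : Nat.card G using Nat.strong_induction_on generalizing G with
  | _ n IHn =>
  subst hn
  intro K p r h
  set M := closure (invols G) with hM
  have hKn := h.normal
  -- a suitable normal subgroup gives a smaller quotient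
  have hquot : ∀ N : Subgroup G, N.Normal → N ≤ K → N ≠ ⊥ →
      Group.IsSolvable (N ⊓ M : Subgroup G) → Group.IsSolvable M := by
    intro N hN hNK hne hsol
    obtain ⟨hq, hinv⟩ := h.quotient hNK
    have h1 := IHn _ (Core.card_quotient_lt hne) (G ⧸ N) rfl _ p r hq
    rw [hinv, ← MonoidHom.map_closure] at h1
    set f := (QuotientGroup.mk' N).subgroupMap M
    refine Group.isSolvable_of_ker_le_range (inclusion (inf_le_right : N ⊓ M ≤ M)) f fun a ha => ?_
    rw [MonoidHom.mem_ker] at ha
    exact ⟨⟨a, (QuotientGroup.eq_one_iff _).1 (congrArg Subtype.val ha), a.2⟩, rfl⟩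
  by_contra hns
  have hrad : ∀ N : Subgroup G, N.Normal → N ≤ K → Group.IsSolvable N → N = ⊥ := by
    intro N hN hNK hs
    by_contra hne
    exact hns (hquot N hN hNK hne
      (Group.isSolvable_of_isSolvable_injective
        (inclusion_injective (inf_le_left : N ⊓ M ≤ N))))
  have hfaith : ∀ g ∈ K, (∀ d ∈ invols G, Commute g d) → g = 1 := by
    intro g hg hc
    by_contra hg1
    set C := K ⊓ centralizer (invols G) with hC
    have hCn : C.Normal := ⟨fun a ha b => ⟨hKn.conj_mem a ha.1 b, fun d hd => by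
      have h1 := ha.2 (b⁻¹ * d * b) (by simpa using OddTwo.conj_mem hd b⁻¹)
      have h2 : Commute (b⁻¹ * d * b) a := h1
      have h3 := (Commute.conj_iff b).2 h2
      rw [show b * (b⁻¹ * d * b) * b⁻¹ = d by group] at h3
      exact h3.eq⟩⟩
    have hgC : g ∈ C := ⟨hg, fun d hd => ((hc d hd).symm).eq⟩
    refine hns (hquot C hCn inf_le_left (fun he => hg1 (by rwa [he, mem_bot] at hgC)) ?_)
    refine Group.isSolvable_of_comm fun a b => Subtype.ext ?_
    have hle : M ≤ centralizer {(a : G)} := (closure_le _).2 fun d hd =>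
      mem_centralizer_singleton_iff.2 ((mem_inf.1 a.2.1).2 d hd)
    exact (mem_centralizer_singleton_iff.1 (hle (mem_inf.1 b.2).2)).symm
  obtain ⟨x, hx⟩ : (invols G).Nonempty := by
    by_contra he
    rw [Set.not_nonempty_iff_eq_empty] at he
    refine hns (Group.isSolvable_of_comm fun a b => ?_)
    have hb : M = ⊥ := by simp [hM, he]
    have ha : (a : G) = 1 := by rw [← mem_bot, ← hb]; exact a.2
    have hb' : (b : G) = 1 := by rw [← mem_bot, ← hb]; exact b.2
    exact Subtype.ext (by simp [ha, hb'])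
  have hP : ∀ y ∈ invols G, ∃ z ∈ invols G, orderOf (y * z) = p := by
    intro y hy
    by_contra hne
    push Not at hne
    exact hns (h.toOddTwo.solvable_of_one_order h.rprime h.rTwo (h.symm_types hy hne))
  have hR : ∀ y ∈ invols G, ∃ z ∈ invols G, orderOf (y * z) = r := by
    intro y hy
    by_contra hne
    push Not at hne
    exact hns (h.toOddTwo.solvable_of_one_order h.pprime h.pTwo (h.symm.symm_types hy hne))
  have hind : ∀ L : Subgroup G, L ≠ ⊤ → (∀ x ∈ invols G, x ∈ L → ∀ y ∈ invols G, y ∈ L →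
      ∀ y' ∈ invols G, y' ∈ L → x ≠ y → x ≠ y' → orderOf (x * y) = orderOf (x * y') →
      ∃ g ∈ L, Commute g x ∧ g * y * g⁻¹ = y') →
      Group.IsSolvable ↥(closure (invols G ∩ (L : Set G))) := by
    intro L hL htr
    rcases (invols G ∩ (L : Set G)).eq_empty_or_nonempty with he | ⟨z, hz, hzL⟩
    · have hb : closure (invols G ∩ (L : Set G)) = ⊥ := by simp [he]
      refine Group.isSolvable_of_comm fun a b => Subtype.ext ?_
      have ha : (a : G) = 1 := by rw [← mem_bot, ← hb]; exact a.2
      have hb' : (b : G) = 1 := by rw [← mem_bot, ← hb]; exact b.2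
      simp [ha, hb']
    have hinvL : ∀ a : L, a ∈ invols L ↔ (a : G) ∈ invols G := fun a => by
      show orderOf a = 2 ↔ orderOf (a : G) = 2
      rw [orderOf_submonoid]
    have hH : Hyp (K.subgroupOf L) p r := by
      refine ⟨h.restrict hz hzL, h.pprime, h.rprime, h.pr, h.pTwo, h.rTwo, ?_, ?_⟩
      · intro a ha b hb hne
        rw [← orderOf_submonoid]
        exact h.order _ ((hinvL a).1 ha) _ ((hinvL b).1 hb) fun he => hne (Subtype.ext he)
      · intro a ha b hb b' hb' hne hne' ho
        rw [← orderOf_submonoid (a * b), ← orderOf_submonoid (a * b')] at ho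
        obtain ⟨g, hg, hga, hgb⟩ := htr a ((hinvL a).1 ha) a.2 b ((hinvL b).1 hb) b.2
          b' ((hinvL b').1 hb') b'.2 (fun he => hne (Subtype.ext he))
          (fun he => hne' (Subtype.ext he)) ho
        exact ⟨⟨g, hg⟩, Subtype.ext hga.eq, Subtype.ext hgb⟩
    have hlt : Nat.card L < Nat.card G :=
      lt_of_le_of_ne (Nat.le_of_dvd Nat.card_pos (card_subgroup_dvd_card L))
        fun he => hL (eq_top_of_card_eq _ he)
    have hs := IHn _ hlt L rfl _ p r hH
    have hmap : (closure (invols L)).map L.subtype = closure (invols G ∩ (L : Set G)) := by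
      rw [MonoidHom.map_closure]
      congr 1
      ext a
      constructor
      · rintro ⟨b, hb, rfl⟩
        exact ⟨(hinvL b).1 hb, b.2⟩
      · rintro ⟨ha, haL⟩
        exact ⟨⟨a, haL⟩, (hinvL _).2 ha, rfl⟩
    rw [← hmap]
    exact Group.isSolvable_of_surjective
      (f := ((closure (invols L)).equivMapOfInjective L.subtype L.subtype_injective).toMonoidHom)
      (MulEquiv.surjective _)
  have := Fact.mk h.pprime
  have := Fact.mk h.rprime
  obtain ⟨P, hPx⟩ := h.toOddTwo.exists_inv_sylow (q := p) h.pTwo hx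
  obtain ⟨S, hSx⟩ := h.toOddTwo.exists_inv_sylow (q := r) h.rTwo hx
  exact (Cfg.absurd_cfg (⟨⟨h, hrad, hfaith, hP, hR, hind⟩, hx, ⟨⟨P, rfl⟩, hPx⟩, ⟨⟨S, rfl⟩, hSx⟩⟩ :
    Cfg K p r x (P : Subgroup G) (S : Subgroup G)))

end Cfsg.Agent.RankThreeInvol
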