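import Cfsg.Agent.RankThreeInvol.Basic

/-!
# Groups with a normal subgroup of odd order and index two
-/

set_option autoImplicit false

namespace Cfsg.Agent.RankThreeInvol

open Subgroup

variable {G : Type*} [Group G]

/-- The involutions of `G`. -/
def invols (G : Type*) [Group G] : Set G := {d | orderOf d = 2}

/-- A subgroup of odd order and index two. -/
structure OddTwo (K : Subgroup G) : Prop where
  normal : K.Normal
  index : K.index = 2
  odd : Odd (Nat.card K)

/-- Conjugation on sets. -/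
def img (g : G) (s : Set G) : Set G := (fun a => g * a * g⁻¹) '' s

theorem mem_img {g : G} {s : Set G} {a : G} : a ∈ img g s ↔ g⁻¹ * a * g ∈ s := by
  constructor
  · rintro ⟨b, hb, rfl⟩
    simpa [mul_assoc] using hb
  · exact fun h => ⟨_, h, by group⟩

theorem img_one (s : Set G) : img 1 s = s := by
  ext a; rw [mem_img]; simp

theorem img_img (g h : G) (s : Set G) : img g (img h s) = img (g * h) s := by
  ext a; simp only [mem_img, mul_inv_rev, mul_assoc]

theorem ncard_img (g : G) (s : Set G) : (img g s).ncard = s.ncard :=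
  Set.ncard_image_of_injective _ (MulAut.conj g).injective

theorem img_cls (g : G) (H : Subgroup G) (x : G) :
    img g (cls H x) = cls (H.map (MulAut.conj g).toMonoidHom) (g * x * g⁻¹) := by
  ext a
  constructor
  · rintro ⟨_, ⟨h, hh, rfl⟩, rfl⟩
    exact ⟨g * h * g⁻¹, ⟨h, hh, rfl⟩, by group⟩
  · rintro ⟨_, ⟨h, hh, rfl⟩, rfl⟩
    exact ⟨_, ⟨h, hh, rfl⟩, by simp [mul_assoc]⟩

theorem mem_normalizer_iff_map {H : Subgroup G} [Finite G] {g : G} :
    g ∈ normalizer (H : Set G) ↔ H.map (MulAut.conj g).toMonoidHom = H :=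
  mem_normalizer_iff_map_conj_eq

theorem map_conj_map_conj (g h : G) (H : Subgroup G) :
    (H.map (MulAut.conj h).toMonoidHom).map (MulAut.conj g).toMonoidHom =
      H.map (MulAut.conj (g * h)).toMonoidHom := by
  rw [map_map]
  congr 1
  ext a
  simp [mul_assoc]

namespace OddTwo

variable {K : Subgroup G}

theorem notMem (hK : OddTwo K) {x : G} (hx : x ∈ invols G) : x ∉ K := fun hxK => by
  have h := orderOf_dvd_natCard (⟨x, hxK⟩ : K)
  rw [orderOf_mk, show orderOf x = 2 from hx] at h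
  exact Nat.not_even_iff_odd.2 hK.odd (even_iff_two_dvd.2 h)

theorem mul_mem_iff (hK : OddTwo K) {a b : G} : a * b ∈ K ↔ (a ∈ K ↔ b ∈ K) :=
  mul_mem_iff_of_index_two hK.index

theorem mul_mem (hK : OddTwo K) {x y : G} (hx : x ∈ invols G) (hy : y ∈ invols G) : x * y ∈ K :=
  hK.mul_mem_iff.2 (iff_of_false (hK.notMem hx) (hK.notMem hy))

theorem odd_order (hK : OddTwo K) {g : G} (hg : g ∈ K) : Odd (orderOf g) := by
  have h := orderOf_dvd_natCard (⟨g, hg⟩ : K)
  rw [orderOf_mk] at h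
  exact hK.odd.of_dvd_nat h

theorem odd_mul (hK : OddTwo K) {x y : G} (hx : x ∈ invols G) (hy : y ∈ invols G) :
    Odd (orderOf (x * y)) :=
  hK.odd_order (hK.mul_mem hx hy)

theorem eq_of_commute (hK : OddTwo K) {x y : G} (hx : x ∈ invols G) (hy : y ∈ invols G)
    (h : Commute x y) : x = y :=
  eq_of_commute_of_odd hx hy h (hK.odd_mul hx hy)

theorem conj_mem {x : G} (hx : x ∈ invols G) (g : G) : g * x * g⁻¹ ∈ invols G :=
  (Invol.orderOf_conj g x).trans hx

theorem cl : ∀ a ∈ invols G, ∀ b ∈ invols G, a * b * a ∈ invols G := fun a ha b hb => by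
  rw [← conj_eq ha]
  exact conj_mem hb a

theorem mid_mem (_hK : OddTwo K) {x y : G} (hx : x ∈ invols G) (hy : y ∈ invols G) :
    mid x y ∈ invols G :=
  RankThreeInvol.mid_mem (fun _ hd => hd) cl hx hy

theorem mid_conj' (hK : OddTwo K) {x y : G} (hx : x ∈ invols G) (hy : y ∈ invols G) :
    mid x y * x * (mid x y)⁻¹ = y :=
  RankThreeInvol.mid_conj' hx hy (hK.odd_mul hx hy)

/-- An involution carrying `a` to `b` is `mid a b`. -/
theorem swap_eq (hK : OddTwo K) {a b d : G} (ha : a ∈ invols G) (hd : d ∈ invols G)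
    (h : d * a * d⁻¹ = b) : d = mid a b := by
  have hb : b ∈ invols G := h ▸ conj_mem ha d
  refine hK.eq_of_commute hd (hK.mid_mem ha hb) ?_
  exact swap_commute_mid hd ha hb (hK.odd_mul ha hb) (conj_eq hd a ▸ h)

/-- Two involutions are conjugate by an element of `K`. -/
theorem exists_conj (hK : OddTwo K) {x y : G} (hx : x ∈ invols G) (hy : y ∈ invols G) :
    ∃ g ∈ K, g * x * g⁻¹ = y := by
  refine ⟨mid x y * x, hK.mul_mem (hK.mid_mem hx hy) hx, ?_⟩
  calc mid x y * x * x * (mid x y * x)⁻¹ = mid x y * (x * x) * (x⁻¹ * (mid x y)⁻¹) := by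
        rw [mul_inv_rev, mul_assoc (mid x y) x x]
    _ = mid x y * x * (mid x y)⁻¹ := by
        rw [Invol.mul_self_eq_one hx, mul_one, Invol.inv_eq_self hx, mul_assoc]
    _ = y := hK.mid_conj' hx hy

theorem odd_index_mem (hK : OddTwo K) {g : G} (hg : Odd (orderOf g)) : g ∈ K := by
  obtain ⟨m, hm⟩ := hg
  have h2 : ∀ a : G, a ^ 2 ∈ K := fun a => by rw [pow_two]; exact hK.mul_mem_iff.2 Iff.rfl
  have : g = (g ^ (m + 1)) ^ 2 := by
    rw [← pow_mul, show (m + 1) * 2 = orderOf g + 1 by omega, pow_succ, pow_orderOf_eq_one, one_mul]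
  rw [this]
  exact h2 _

theorem le_of_isPGroup (hK : OddTwo K) {q : ℕ} [hq : Fact q.Prime] (hq2 : q ≠ 2) {P : Subgroup G}
    (hP : IsPGroup q P) : P ≤ K := fun g hg => by
  obtain ⟨k, hk⟩ := IsPGroup.iff_orderOf.1 hP ⟨g, hg⟩
  rw [orderOf_mk] at hk
  exact hK.odd_index_mem (hk ▸ (hq.out.odd_of_ne_two hq2).pow)

/-- An element outside `K` has an involution among its powers. -/
theorem exists_pow_invol (hK : OddTwo K) [Finite G] {g : G} (hg : g ∉ K) :
    ∃ n : ℕ, g ^ n ∈ invols G := by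
  have he : 2 ∣ orderOf g := by
    rw [← even_iff_two_dvd, ← Nat.not_odd_iff_even]
    exact fun ho => hg (hK.odd_index_mem ho)
  obtain ⟨m, hm⟩ := he
  refine ⟨m, ?_⟩
  show orderOf (g ^ m) = 2
  have hm0 : m ≠ 0 := by
    rintro rfl
    exact (orderOf_pos g).ne' (by omega)
  rw [orderOf_pow_of_dvd hm0 ⟨2, by omega⟩, hm, Nat.mul_div_cancel _ (Nat.pos_of_ne_zero hm0)]

theorem restrict (hK : OddTwo K) {H : Subgroup G} {x : G} (hx : x ∈ invols G) (hxH : x ∈ H) :
    OddTwo (K.subgroupOf H) := by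
  have := hK.normal
  refine ⟨inferInstance, ?_, ?_⟩
  · refine index_eq_two_iff'.2 ⟨⟨x, hxH⟩, fun b => ?_⟩
    simp only [mem_subgroupOf, Subgroup.coe_mul]
    have h1 := hK.notMem hx
    by_cases hb : (b : G) ∈ K
    · exact Or.inr ⟨hb, fun h2 => h1 ((hK.mul_mem_iff.1 h2).2 hb)⟩
    · exact Or.inl ⟨hK.mul_mem_iff.2 (iff_of_false h1 hb), hb⟩
  · exact hK.odd.of_dvd_nat (card_comap_dvd_of_injective K H.subtype H.subtype_injective)

variable [Finite G]

/-- An involution normalises some Sylow subgroup. -/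
theorem exists_inv_sylow (hK : OddTwo K) {q : ℕ} [Fact q.Prime] (hq : q ≠ 2) {x : G}
    (hx : x ∈ invols G) : ∃ P : Sylow q G, x ∈ normalizer ((P : Subgroup G) : Set G) := by
  have := hK.normal
  obtain ⟨P⟩ : Nonempty (Sylow q G) := inferInstance
  have hP := hK.le_of_isPGroup hq P.2
  have htop := Sylow.normalizer_sup_eq_top' P hP
  obtain ⟨g, hgN, hgK⟩ : ∃ g ∈ normalizer ((P : Subgroup G) : Set G), g ∉ K := by
    by_contra hne
    push Not at hne
    rw [sup_eq_right.2 hne] at htop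
    exact hK.notMem hx (htop ▸ mem_top x)
  obtain ⟨n, hn⟩ := hK.exists_pow_invol hgK
  obtain ⟨k, -, hk⟩ := hK.exists_conj hn hx
  refine ⟨k • P, ?_⟩
  have hu : g ^ n ∈ normalizer ((P : Subgroup G) : Set G) := pow_mem hgN n
  rw [mem_normalizer_iff_map] at hu ⊢
  rw [Sylow.coe_subgroup_smul]
  show ((P : Subgroup G).map (MulAut.conj k).toMonoidHom).map (MulAut.conj x).toMonoidHom =
    (P : Subgroup G).map (MulAut.conj k).toMonoidHom
  rw [map_conj_map_conj, ← hk, inv_mul_cancel_right, ← map_conj_map_conj, hu]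

/-- Two Sylow subgroups normalised by `x` are conjugate by an element centralising `x`. -/
theorem exists_conj_sylow (hK : OddTwo K) {q : ℕ} [Fact q.Prime] {x : G} (hx : x ∈ invols G)
    {P P' : Sylow q G} (hP : x ∈ normalizer ((P : Subgroup G) : Set G))
    (hP' : x ∈ normalizer ((P' : Subgroup G) : Set G)) :
    ∃ h : G, Commute h x ∧
      (P : Subgroup G).map (MulAut.conj h).toMonoidHom = (P' : Subgroup G) := by
  obtain ⟨g, hg⟩ := MulAction.exists_smul_eq G P P'
  have hg' : (P : Subgroup G).map (MulAut.conj g).toMonoidHom = (P' : Subgroup G) := by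
    rw [← hg, Sylow.coe_subgroup_smul]; rfl
  set y := g⁻¹ * x * g with hy
  have hyD : y ∈ invols G := by
    have := conj_mem hx g⁻¹
    rwa [inv_inv] at this
  have hyN : y ∈ normalizer ((P : Subgroup G) : Set G) := by
    rw [mem_normalizer_iff_map] at hP' ⊢
    calc (P : Subgroup G).map (MulAut.conj y).toMonoidHom
        = (((P : Subgroup G).map (MulAut.conj g).toMonoidHom).map
            (MulAut.conj x).toMonoidHom).map (MulAut.conj g⁻¹).toMonoidHom := by
          rw [map_conj_map_conj, map_conj_map_conj, hy, mul_assoc g⁻¹ x g]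
      _ = (P : Subgroup G) := by
          rw [hg', hP', ← hg', map_conj_map_conj, inv_mul_cancel, map_one, MulAut.one_def,
            show (MulEquiv.refl G).toMonoidHom = MonoidHom.id G from rfl, map_id]
  refine ⟨g * mid x y, ?_, ?_⟩
  · refine mul_inv_eq_iff_eq_mul.1 ?_
    calc g * mid x y * x * (g * mid x y)⁻¹ = g * (mid x y * x * (mid x y)⁻¹) * g⁻¹ := by group
      _ = x := by rw [hK.mid_conj' hx hyD, hy]; group
  · rw [← map_conj_map_conj, mem_normalizer_iff_map.1 (mid_mem_subgroup hP hyN), hg']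

/-- A subgroup of `q`-power order normalised by `x` lies in a Sylow subgroup normalised by `x`. -/
theorem exists_inv_sylow_ge (hK : OddTwo K) {q : ℕ} [Fact q.Prime] (hq : q ≠ 2) {x : G}
    (hx : x ∈ invols G) {U : Subgroup G} (hU : IsPGroup q U)
    (hxU : x ∈ normalizer (U : Set G)) :
    ∃ P : Sylow q G, U ≤ P ∧ x ∈ normalizer ((P : Subgroup G) : Set G) := by
  obtain ⟨Q, ⟨hUQ, hQp, hxQ⟩, hmax⟩ :=
    (Set.toFinite {Q : Subgroup G | U ≤ Q ∧ IsPGroup q Q ∧ x ∈ normalizer (Q : Set G)}).exists_maximalFor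
      (fun Q : Subgroup G => Q) _ ⟨U, le_rfl, hU, hxU⟩
  set N := normalizer (Q : Set G) with hN
  obtain ⟨R, hR⟩ := (hK.restrict hx hxQ).exists_inv_sylow (q := q) hq
    (x := (⟨x, hxQ⟩ : N)) ((orderOf_submonoid (⟨x, hxQ⟩ : N)).symm.trans hx)
  have hQn : (Q.subgroupOf N).Normal := normal_in_normalizer
  have hQR : Q.subgroupOf N ≤ (R : Subgroup N) :=
    (Core.le_pCore (hN := hQn) (hQp.comap_subtype)).trans (Core.pCore_le_sylow R)
  have hQR' : Q = (R : Subgroup N).map N.subtype := by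
    refine le_antisymm ?_ (hmax ⟨?_, R.2.map _, ?_⟩ ?_)
    · exact fun a ha => ⟨⟨a, le_normalizer ha⟩, hQR ha, rfl⟩
    · exact fun a ha => ⟨⟨a, le_normalizer (hUQ ha)⟩, hQR (hUQ ha), rfl⟩
    · exact le_normalizer_map N.subtype ⟨_, hR, rfl⟩
    · exact fun a ha => ⟨⟨a, le_normalizer ha⟩, hQR ha, rfl⟩
  obtain ⟨P, hP⟩ := hQp.exists_le_sylow
  refine ⟨P, hUQ.trans hP, ?_⟩
  suffices hPQ : (P : Subgroup G) = Q by rwa [hPQ]
  by_contra hne
  have hlt : Q.subgroupOf (P : Subgroup G) < ⊤ := by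
    rw [lt_top_iff_ne_top, ne_eq, subgroupOf_eq_top]
    exact fun h1 => hne (le_antisymm h1 hP)
  have : Group.IsNilpotent (P : Subgroup G) := P.2.isNilpotent
  obtain ⟨a, haN, haQ⟩ := SetLike.exists_of_lt (Group.normalizerCondition_of_isNilpotent _ hlt)
  rw [← subgroupOf_normalizer_eq hP, mem_subgroupOf] at haN
  rw [mem_subgroupOf] at haQ
  obtain ⟨R', hR'⟩ := ((P.2.comap_subtype (K := N)) : IsPGroup q ((P : Subgroup G).subgroupOf N)).exists_le_sylow
  have haR' : (⟨a, haN⟩ : N) ∈ (R' : Subgroup N) := hR' (mem_subgroupOf.2 a.2)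
  have hRle : Q.subgroupOf N ≤ (R' : Subgroup N) :=
    (Core.le_pCore (hN := hQn) (hQp.comap_subtype)).trans (Core.pCore_le_sylow R')
  have hRR : (R : Subgroup N) = Q.subgroupOf N := by
    rw [hQR', subgroupOf, comap_map_eq_self_of_injective N.subtype_injective]
  have hcard : Nat.card (R' : Subgroup N) ≤ Nat.card (Q.subgroupOf N) := by
    rw [← hRR, R'.card_eq_multiplicity, R.card_eq_multiplicity]
  rw [← eq_of_le_of_card_ge hRle hcard, mem_subgroupOf] at haR'
  exact haQ haR'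

end OddTwo

end Cfsg.Agent.RankThreeInvol
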