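import Cfsg.Agent.RankThreeInvol.TwoType.Spectral

/-!
# The two-order configuration is absurd
-/

set_option autoImplicit false

namespace Cfsg.Agent.RankThreeInvol

open Subgroup

variable {G : Type*} [Group G]

/-- With `B ∣ d + 1` and `d / g ∣ B - 1`, both odd, the divisor `g` exceeds `B`. -/
theorem lt_of_div_dvd {B d g : ℕ} (hB : Odd B) (hB1 : 1 < B) (hd : Odd d) (hBd : B ∣ d + 1)
    (hgd : g ∣ d) (hdiv : d / g ∣ B - 1) : B < g := by
  obtain ⟨a, ha⟩ := hgd
  have hd0 : d ≠ 0 := by rintro rfl; exact Nat.not_odd_zero hd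
  have hg0 : 0 < g := by
    rcases Nat.eq_zero_or_pos g with h | h
    · exact absurd (by rw [ha, h, zero_mul]) hd0
    · exact h
  rw [ha, Nat.mul_div_cancel_left _ hg0] at hdiv
  obtain ⟨b, hb⟩ := hdiv
  have hcop : Nat.Coprime B a :=
    ((Nat.coprime_self_sub_right (by omega : 1 ≤ B)).2 (Nat.coprime_one_right B)).coprime_dvd_right
      ⟨b, hb⟩
  by_contra hlt
  have hz : (B : ℤ) ∣ (a : ℤ) * ((g : ℤ) - b) := by
    have h1 : (B : ℤ) ∣ ((d + 1 : ℕ) : ℤ) := Int.natCast_dvd_natCast.2 hBd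
    have h2 : ((B : ℤ) - 1) = (a : ℤ) * b := by
      rw [← Nat.cast_mul, ← hb, Nat.cast_sub (by omega : 1 ≤ B)]; simp
    have h3 : (a : ℤ) * ((g : ℤ) - b) = ((d + 1 : ℕ) : ℤ) - B := by
      rw [ha]; push_cast; linear_combination h2
    rw [h3]
    exact dvd_sub h1 dvd_rfl
  have hz' := (Int.isCoprime_iff_nat_coprime.2 (by simpa using hcop)).dvd_of_dvd_mul_left hz
  have ha1 : 1 ≤ a := Nat.one_le_iff_ne_zero.2 (by rintro rfl; simp at ha; exact hd0 ha)
  have hbB : b < B := by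
    rcases Nat.lt_or_ge b B with h | h
    · exact h
    · have h4 : B ≤ a * b := le_trans h (Nat.le_mul_of_pos_left b ha1)
      omega
  have hgB : g < B := by
    rcases Nat.lt_or_ge g B with h | h
    · exact h
    · have hgB' : g = B := by omega
      have h5 : B ∣ d := hgB' ▸ (⟨a, ha⟩ : g ∣ d)
      have h6 := (Nat.dvd_add_right h5).1 hBd
      exact absurd (Nat.dvd_one.1 h6) (by omega)
  have hzero := Int.eq_zero_of_abs_lt_dvd hz' (by rw [abs_lt]; omega)
  have hgb : g = b := by omega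
  rw [← hgb, mul_comm] at hb
  rw [ha, Nat.odd_iff] at hd
  rw [Nat.odd_iff] at hB
  omega

namespace Cfg

variable [Finite G] {K : Subgroup G} {p r : ℕ} {x : G} {P S : Subgroup G}

theorem mod_four (h : Cfg K p r x P S) :
    p % 4 = 3 ∧ ∃ a, (cls P x).ncard = p ^ (2 * a + 1) := by
  obtain ⟨k, hk⟩ := h.ncard_cls_pow
  have h3 := h.sg_odd.2
  rw [hk, Nat.pow_mod] at h3
  have hp : p % 4 = 1 ∨ p % 4 = 3 := by
    have := Nat.odd_iff.1 (h.pprime.odd_of_ne_two h.pTwo)
    omega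
  rcases hp with hp | hp
  · rw [hp, one_pow] at h3; norm_num at h3
  refine ⟨hp, ?_⟩
  rcases Nat.even_or_odd' k with ⟨a, rfl | rfl⟩
  · rw [hp, pow_mul, Nat.pow_mod] at h3; norm_num at h3
  · exact ⟨a, hk⟩

/-- Quadratic reciprocity excludes one pair of congruences. -/
theorem not_both_dvd (h : Cfg K p r x P S) :
    ¬ (r ∣ (cls P x).ncard - 1 ∧ p ∣ (cls S x).ncard - 1) := by
  have := h.pFact
  have := h.rFact
  rintro ⟨h1, h2⟩
  obtain ⟨hp4, a, ha⟩ := h.mod_four
  obtain ⟨hr4, b, hb⟩ := h.symm.mod_four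
  have key : ∀ (u v c : ℕ) [Fact v.Prime], v ∣ u ^ (2 * c + 1) - 1 → 1 ≤ u ^ (2 * c + 1) →
      IsSquare (u : ZMod v) := by
    intro u v c _ hd hle
    have h0 : ((u ^ (2 * c + 1) - 1 : ℕ) : ZMod v) = 0 := (ZMod.natCast_eq_zero_iff _ _).2 hd
    rw [Nat.cast_sub hle, Nat.cast_pow, Nat.cast_one, sub_eq_zero] at h0
    refine ⟨(u : ZMod v) ^ (c + 1), ?_⟩
    rw [← pow_add, show c + 1 + (c + 1) = 2 * c + 1 + 1 by ring, pow_succ, h0, one_mul]
  rw [ha] at h1
  rw [hb] at h2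
  have s1 := key p r a h1 (Nat.one_le_pow _ _ h.pprime.pos)
  have s2 := key r p b h2 (Nat.one_le_pow _ _ h.rprime.pos)
  exact (ZMod.exists_sq_eq_prime_iff_of_mod_four_eq_three hp4 hr4 h.pr).1 s2 s1

theorem exists_center_elt (h : Cfg K p r x P S) :
    ∃ z ∈ Cfsg.centerThompsonAOf P, z ≠ 1 ∧ ∀ g ∈ P, Commute g z := by
  have := h.pFact
  have hP : P ≠ ⊥ := fun he => by
    have h1 := h.one_lt_ncard_cls
    have hsub : cls P x ⊆ {x} := by
      rintro _ ⟨g, hg, rfl⟩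
      rw [he, mem_bot] at hg
      simp [hg]
    have := Set.ncard_le_ncard hsub (Set.toFinite _)
    rw [Set.ncard_singleton] at this
    omega
  have : Nontrivial P := (nontrivial_iff_ne_bot P).mpr hP
  have := h.Pinv.isPGroup.center_nontrivial
  obtain ⟨z, hz⟩ := exists_ne (1 : center P)
  refine ⟨((z : P) : G), ?_, fun he => hz (Subtype.ext (Subtype.ext he)), fun g hg =>
    congrArg Subtype.val (mem_center_iff.1 z.2 ⟨g, hg⟩)⟩
  rw [Fusion.centerThompsonAOf_eq_zInter]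
  exact mem_sInf.2 fun A hA => Fusion.mem_of_commute hA (z : P).2 (pow_zero _) fun a ha =>
    congrArg Subtype.val (mem_center_iff.1 z.2 ⟨a, hA.le ha⟩)

variable (hW : ¬ ∀ w ∈ Cfsg.centerThompsonAOf S, Commute w x)
include hW

/-- A central element of `P` centralising `x` moves every involution outside the base clique to a
`p`-neighbour. -/
theorem central_moves (h : Cfg K p r x P S) (hpe : p ∣ sg r x S) {z : G} (hzP : z ∈ P) (hz1 : z ≠ 1)
    (hzc : ∀ g ∈ P, Commute g z) (hzx : Commute z x) :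
    (∀ d ∈ invols G, (z * d * z⁻¹ = d ↔ d ∈ cls P x)) ∧
      ∀ d ∈ invols G, (orderOf (d * (z * d * z⁻¹)) = p ↔ d ∉ cls P x) := by
  classical
  have := h.pFact
  set F := {d ∈ invols G | z * d * z⁻¹ = d} with hF
  have hC1F : cls P x ⊆ F := by
    rintro _ ⟨g, hg, rfl⟩
    refine ⟨OddTwo.conj_mem h.xD g, ?_⟩
    calc z * (g * x * g⁻¹) * z⁻¹ = z * g * x * (z * g)⁻¹ := by group
      _ = g * z * x * (g * z)⁻¹ := by rw [(hzc g hg).eq]
      _ = g * (z * x * z⁻¹) * g⁻¹ := by group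
      _ = g * x * g⁻¹ := by rw [hzx.eq, mul_inv_cancel_right]
  set H := centralizer ({z} : Set G) with hH
  have hmemH : ∀ d ∈ F, d ∈ H := fun d hd =>
    mem_centralizer_singleton_iff.2 (mul_inv_eq_iff_eq_mul.1 hd.2).symm
  have htr : ∀ u ∈ F, cls H u = F := by
    intro u hu
    ext d
    constructor
    · rintro ⟨g, hg, rfl⟩
      refine ⟨OddTwo.conj_mem hu.1 g, ?_⟩
      have hgz := mem_centralizer_singleton_iff.1 hg
      calc z * (g * u * g⁻¹) * z⁻¹ = z * g * u * (z * g)⁻¹ := by group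
        _ = g * z * u * (g * z)⁻¹ := by rw [hgz]
        _ = g * (z * u * z⁻¹) * g⁻¹ := by group
        _ = g * u * g⁻¹ := by rw [hu.2]
    · intro hd
      exact ⟨mid u d, mid_mem_subgroup (hmemH u hu) (hmemH d hd), h.mid_conj' hu.1 hd.1⟩
  have hcount : ∀ Q ∈ trs (cls S x), (cls P x).ncard * (Q ∩ F).ncard = F.ncard := by
    intro Q hQ
    have := Fintype.ofFinite H
    have h1 := incidence H hC1F (Set.inter_subset_right : Q ∩ F ⊆ F) htr
    have hone : ∀ g : H, (img (g : G) (cls P x) ∩ (Q ∩ F)).ncard = 1 := by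
      intro g
      have hsub : img (g : G) (cls P x) ⊆ F := by
        rintro _ ⟨u, hu, rfl⟩
        rw [← htr u (hC1F hu)]
        exact ⟨g, g.2, rfl⟩
      rw [← Set.inter_assoc, Set.inter_eq_left.2 (Set.inter_subset_left.trans hsub)]
      exact h.inter_eq_one ⟨(g : G), rfl⟩ hQ
    rw [Finset.sum_congr rfl fun g _ => hone g, Finset.sum_const, smul_eq_mul, mul_one,
      Finset.card_univ, ← Nat.card_eq_fintype_card, mul_comm ((cls P x).ncard * _)] at h1
    exact (Nat.eq_of_mul_eq_mul_left Nat.card_pos h1).symm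
  set e := sg r x S with he
  have he2 : 2 ≤ e := le_trans h.pprime.two_le (Nat.le_of_dvd h.symm.sg_odd.1.pos hpe)
  have hFeq : F = cls P x := by
    by_contra hne
    have hlt : (cls P x).ncard < F.ncard :=
      Set.ncard_lt_ncard (hC1F.ssubset_of_ne (Ne.symm hne)) (Set.toFinite _)
    have hfix : ∀ Q ∈ trs (cls S x), img z Q = Q := by
      intro Q hQ
      have h2 := hcount Q hQ
      have h3 : 1 < (Q ∩ F).ncard := by
        by_contra hle
        have := Nat.mul_le_mul_left (cls P x).ncard (Nat.le_of_not_lt hle)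
        omega
      obtain ⟨u, hu, w, hw, huw⟩ := (Set.one_lt_ncard (Set.toFinite _)).1 h3
      exact h.coclique_unique hW (img_mem_trs hQ z) hQ ⟨u, hu.1, hu.2.2⟩ ⟨w, hw.1, hw.2.2⟩
        hu.1 hw.1 huw
    refine hz1 (h.faith z (h.le_of_isPGroup h.pTwo h.Pinv.isPGroup hzP) fun d hd => ?_)
    obtain ⟨Q, hQ, Q', hQ', hQQ⟩ := (Set.one_lt_ncard (Set.toFinite _)).1
      (show 1 < {Q ∈ trs (cls S x) | d ∈ Q}.ncard by
        rw [h.through_ncard hd, h.through_eq hW]; omega)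
    by_contra hc
    have hne' : z * d * z⁻¹ ≠ d := fun he' => hc (mul_inv_eq_iff_eq_mul.1 he')
    exact hQQ (h.coclique_unique hW hQ.1 hQ'.1
      (hfix Q hQ.1 ▸ ⟨d, hQ.2, rfl⟩ : z * d * z⁻¹ ∈ Q) hQ.2
      (hfix Q' hQ'.1 ▸ ⟨d, hQ'.2, rfl⟩ : z * d * z⁻¹ ∈ Q') hQ'.2 hne')
  -- the fixed cocliques
  let X : G → Set (Set G) := fun u => {Q ∈ trs (cls S x) | u ∈ Q ∧ img z Q = Q}
  have hXconst : ∀ u ∈ cls P x, (X u).ncard = (X x).ncard := by
    rintro _ ⟨g, hg, rfl⟩
    refine ((Set.ncard_image_of_injective (f := img g) (X x) ?_).symm.trans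
      (congrArg Set.ncard ?_)).symm
    · intro a b hab
      have := congrArg (img g⁻¹) hab
      rwa [img_img, img_img, inv_mul_cancel, img_one, img_one] at this
    ext Q
    constructor
    · rintro ⟨Q', ⟨hQ', hxQ', hfix⟩, rfl⟩
      refine ⟨img_mem_trs hQ' g, ⟨x, hxQ', rfl⟩, ?_⟩
      rw [img_img, ← (hzc g hg).eq, ← img_img, hfix]
    · rintro ⟨hQ, hxQ, hfix⟩
      refine ⟨img g⁻¹ Q, ⟨img_mem_trs hQ g⁻¹, ?_, ?_⟩, ?_⟩
      · rw [mem_img, inv_inv]; exact hxQ
      · rw [img_img, ← ((hzc g hg).inv_left).eq, ← img_img, hfix]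
      · rw [img_img, mul_inv_cancel, img_one]
  have hXmod : p ∣ (X x).ncard := by
    have h1 := ncard_modEq_fixed (q := p) (h.Pinv.isPGroup.to_le (zpowers_le.2 hzP))
      {Q ∈ trs (cls S x) | x ∈ Q} (fun g hg Q hQ => ⟨img_mem_trs hQ.1 g, by
        obtain ⟨i, rfl⟩ := hg
        rw [mem_img]
        have hc : Commute (z ^ i) x := hzx.zpow_left i
        rw [mul_assoc, ← hc.eq, inv_mul_cancel_left]
        exact hQ.2⟩)
    have h2 : {Q ∈ {Q ∈ trs (cls S x) | x ∈ Q} | ∀ g ∈ zpowers z, img g Q = Q} = X x := by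
      ext Q
      simp only [X, Set.mem_ofPred_eq]
      constructor
      · rintro ⟨⟨hQ, hxQ⟩, hall⟩
        exact ⟨hQ, hxQ, hall z (mem_zpowers z)⟩
      · rintro ⟨hQ, hxQ, hfix⟩
        exact ⟨⟨hQ, hxQ⟩, fun g hg => (zpowers_le.2 (show z ∈ imgStab Q from hfix) hg)⟩
    rw [h2, h.through_eq hW] at h1
    exact Nat.modEq_zero_iff_dvd.1 (h1.symm.trans (Nat.modEq_zero_iff_dvd.2 hpe))
  have hX0 : ∀ Q ∈ trs (cls S x), img z Q ≠ Q := by
    obtain ⟨T, hT⟩ := (Set.toFinite {Q ∈ trs (cls S x) | img z Q = Q}).exists_finset_coe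
    obtain ⟨C, hC⟩ := (Set.toFinite (cls P x)).exists_finset_coe
    obtain ⟨U, hU⟩ := (Set.toFinite (invols G \ cls P x)).exists_finset_coe
    have hTm : ∀ Q, Q ∈ T ↔ Q ∈ trs (cls S x) ∧ img z Q = Q := fun Q => by
      rw [← Finset.mem_coe, hT]; rfl
    have hCt : cls P x ∈ trs (cls P x) := ⟨1, img_one _⟩
    have e1 : T.card = C.card * (X x).ncard := by
      have hsum : ∑ u ∈ C, (T.filter fun Q => u ∈ Q).card = ∑ Q ∈ T, (C.filter fun u => u ∈ Q).card :=
        Finset.sum_card_bipartiteAbove_eq_sum_card_bipartiteBelow fun (u : G) (Q : Set G) => u ∈ Q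
      have ha : ∀ u ∈ C, (T.filter fun Q => u ∈ Q).card = (X x).ncard := by
        intro u hu
        rw [← hXconst u (hC ▸ hu : u ∈ cls P x), ← Set.ncard_coe_finset, Finset.coe_filter]
        congr 1
        ext Q
        simp only [X, Set.mem_ofPred_eq, hTm]
        exact ⟨fun hQ => ⟨hQ.1.1, hQ.2, hQ.1.2⟩, fun hQ => ⟨⟨hQ.1, hQ.2.2⟩, hQ.2.1⟩⟩
      have hb : ∀ Q ∈ T, (C.filter fun u => u ∈ Q).card = 1 := by
        intro Q hQ
        rw [← h.inter_eq_one hCt ((hTm Q).1 hQ).1, ← Set.ncard_coe_finset, Finset.coe_filter]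
        congr 1
        ext u
        simp only [Set.mem_ofPred_eq, Set.mem_inter_iff, ← Finset.mem_coe, hC]
      rw [Finset.sum_congr rfl ha, Finset.sum_congr rfl hb, Finset.sum_const, Finset.sum_const,
        smul_eq_mul, smul_eq_mul, mul_one] at hsum
      exact hsum.symm
    have hsum : ∑ Q ∈ T, (U.filter fun v => v ∈ Q).card = ∑ v ∈ U, (T.filter fun Q => v ∈ Q).card :=
      Finset.sum_card_bipartiteAbove_eq_sum_card_bipartiteBelow fun (Q : Set G) (v : G) => v ∈ Q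
    have ha : ∀ Q ∈ T, (U.filter fun v => v ∈ Q).card = (cls S x).ncard - 1 := by
      intro Q hQ
      obtain ⟨hQ', -⟩ := (hTm Q).1 hQ
      have h1 := h.inter_eq_one hCt hQ'
      have h2 : (Q \ cls P x).ncard = (cls S x).ncard - 1 := by
        have := Set.ncard_inter_add_ncard_sdiff_eq_ncard Q (cls P x) (Set.toFinite _)
        rw [Set.inter_comm, h1, trs_ncard hQ'] at this
        omega
      rw [← h2, ← Set.ncard_coe_finset, Finset.coe_filter]
      congr 1
      ext v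
      simp only [Set.mem_ofPred_eq, Set.mem_sdiff, ← Finset.mem_coe, hU]
      exact ⟨fun hv => ⟨hv.2, hv.1.2⟩, fun hv => ⟨⟨h.symm.trs_subset hQ' hv.1, hv.2⟩, hv.1⟩⟩
    have hb : ∀ v ∈ U, (T.filter fun Q => v ∈ Q).card ≤ 1 := by
      intro v hv
      have hv' : v ∈ invols G \ cls P x := hU ▸ hv
      refine Finset.card_le_one.2 fun Q hQ Q' hQ' => ?_
      rw [Finset.mem_filter, hTm] at hQ hQ'
      refine h.coclique_unique hW hQ.1.1 hQ'.1.1
        (hQ.1.2 ▸ ⟨v, hQ.2, rfl⟩ : z * v * z⁻¹ ∈ Q) hQ.2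
        (hQ'.1.2 ▸ ⟨v, hQ'.2, rfl⟩ : z * v * z⁻¹ ∈ Q') hQ'.2 fun he' => hv'.2 ?_
      rw [← hFeq]
      exact ⟨hv'.1, he'⟩
    rw [Finset.sum_congr rfl ha, Finset.sum_const, smul_eq_mul] at hsum
    have hle := hsum.le.trans (Finset.sum_le_card_nsmul _ _ _ hb)
    rw [smul_eq_mul, mul_one, e1, ← Set.ncard_coe_finset U, hU,
      Set.ncard_sdiff h.cls_subset (Set.toFinite _), h.ncard_invols, ← Set.ncard_coe_finset C, hC]
      at hle
    have hX : (X x).ncard = 0 := by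
      by_contra hne0
      have h5 := Nat.le_of_dvd (Nat.pos_of_ne_zero hne0) hXmod
      have hA := h.one_lt_ncard_cls
      have hB := h.symm.one_lt_ncard_cls
      have h7 : (cls P x).ncard * (cls S x).ncard - (cls P x).ncard =
          (cls P x).ncard * ((cls S x).ncard - 1) := by rw [Nat.mul_sub, mul_one]
      rw [h7, mul_assoc] at hle
      have h8 := Nat.le_of_mul_le_mul_left hle (by omega)
      have h9 := (Nat.mul_le_mul_right ((cls S x).ncard - 1)
        (h.pprime.two_le.trans h5)).trans h8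
      omega
    intro Q hQ hfix
    have hmem : Q ∈ T := (hTm Q).2 ⟨hQ, hfix⟩
    rw [hX, mul_zero, Finset.card_eq_zero] at e1
    rw [e1] at hmem
    exact absurd hmem (Finset.notMem_empty Q)
  have hiff : ∀ d ∈ invols G, (z * d * z⁻¹ = d ↔ d ∈ cls P x) := fun d hd =>
    ⟨fun h1 => hFeq ▸ ⟨hd, h1⟩, fun h1 => (hC1F h1).2⟩
  refine ⟨hiff, fun d hd => ⟨fun h1 h2 => ?_, fun h1 => ?_⟩⟩
  · rw [(hiff d hd).2 h2, Invol.mul_self_eq_one hd, orderOf_one] at h1
    exact h.pprime.ne_one h1.symm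
  set d' := z * d * z⁻¹ with hd'
  have hd'D : d' ∈ invols G := OddTwo.conj_mem hd z
  have hne : d ≠ d' := fun h2 => h1 ((hiff d hd).1 h2.symm)
  refine (h.order d hd d' hd'D hne).resolve_right fun ho => ?_
  obtain ⟨Q, hQ, hdQ, hd'Q⟩ := h.symm.edge_trs hd hd'D ho
  obtain ⟨u, hu⟩ : (cls P x ∩ Q).Nonempty := (Set.ncard_pos (Set.toFinite _)).1 (by
    rw [h.inter_eq_one ⟨1, img_one _⟩ hQ]; exact Nat.one_pos)
  have hud : u ≠ d' := fun h2 => by
    have h3 : z * d' * z⁻¹ = d' := (hiff d' hd'D).2 (h2 ▸ hu.1)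
    rw [hd'] at h3
    exact hne (mul_left_cancel (mul_right_cancel h3)).symm
  exact hX0 Q hQ (h.coclique_unique hW (img_mem_trs hQ z) hQ
    ⟨u, hu.2, (hiff u (h.cls_mem hu.1)).2 hu.1⟩ ⟨d, hdQ, rfl⟩ hu.2 hd'Q hud)

omit hW in
/-- A configuration with `r ∤ |cls P x| - 1` is absurd. -/
theorem absurd_of_not_dvd (h : Cfg K p r x P S) (hr : ¬ r ∣ (cls P x).ncard - 1) : False := by
  classical
  have := h.pFact
  have hW : ¬ ∀ w ∈ Cfsg.centerThompsonAOf S, Commute w x := fun hc => hr (h.dvd_of_central hc)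
  set A := (cls P x).ncard with hA
  set B := (cls S x).ncard with hB
  set s := sg p x P with hs
  set e := sg r x S with he
  have hA1 : 1 < A := h.one_lt_ncard_cls
  have hB1 : 1 < B := h.symm.one_lt_ncard_cls
  have hs1 : 1 < s := h.one_lt_sg
  have hsB : s < B := h.sg_lt
  have heA : e < A := h.symm.sg_lt
  have hso := Nat.odd_iff.1 h.sg_odd.1
  have heo : e % 2 = 1 := Nat.odd_iff.1 h.symm.sg_odd.1
  have hAodd := Nat.odd_iff.1 h.odd_ncard_cls
  have hBodd : Odd B := h.symm.odd_ncard_cls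
  obtain ⟨i, hi⟩ := h.ncard_cls_pow
  obtain ⟨j, hj⟩ := h.symm.ncard_cls_pow
  have hcopAB : Nat.Coprime A B := by
    rw [hA, hB, hi, hj]; exact ((Nat.coprime_primes h.pprime h.rprime).2 h.pr).pow i j
  have hid : (A : ℤ) * B = 1 + s * ((A : ℤ) - 1) + e * ((B : ℤ) - 1) := by
    have h1 := congrArg (fun t : ℕ => (t : ℤ)) h.identity
    rw [← hA, ← hB, ← hs, ← he] at h1
    push_cast [Nat.cast_sub hA1.le, Nat.cast_sub hB1.le] at h1
    exact h1
  have hcong : (B : ℤ) ∣ (A : ℤ) * e - 1 := h.dvd_mul_sub_one hW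
  -- `B` divides `s + e`
  have hBse : B ∣ s + e := by
    have h1 : (B : ℤ) ∣ ((A : ℤ) - 1) * (s * A + 1) := by
      have : ((A : ℤ) - 1) * (s * A + 1) = ((A : ℤ) * e - 1) + B * (A * A - A * e) := by
        linear_combination -(A : ℤ) * hid
      rw [this]
      exact dvd_add hcong (dvd_mul_right _ _)
    have hc1 : IsCoprime (B : ℤ) ((A : ℤ) - 1) := by
      have h2 : ((A - 1 : ℕ) : ℤ) = (A : ℤ) - 1 := by rw [Nat.cast_sub hA1.le]; simp
      rw [← h2, Int.isCoprime_iff_nat_coprime, Int.natAbs_natCast, Int.natAbs_natCast, hB, hj]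
      exact ((h.rprime.coprime_iff_not_dvd).2 hr).pow_left j
    have h3 := dvd_add (hc1.dvd_of_dvd_mul_left h1) hcong
    have h4 : (s : ℤ) * A + 1 + ((A : ℤ) * e - 1) = A * ((s + e : ℕ) : ℤ) := by push_cast; ring
    rw [h4] at h3
    exact Int.natCast_dvd_natCast.1
      ((Int.isCoprime_iff_nat_coprime.2 (by simpa using hcopAB.symm)).dvd_of_dvd_mul_left h3)
  set d := s + e - 1 with hd
  have hd1 : d + 1 = s + e := by omega
  have hdodd : Odd d := Nat.odd_iff.2 (by omega)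
  have hdz : ((d : ℕ) : ℤ) = (s : ℤ) + e - 1 := by omega
  -- the divisibility from the identity element
  have hk : ((nbr p x).ncard : ℤ) = s * ((A : ℤ) - 1) := by
    rw [h.nbr_eq_mul, Nat.cast_mul, ← hs, ← hA, Nat.cast_sub hA1.le]; simp
  have hn : ((invols G).ncard : ℤ) = (A : ℤ) * B := by rw [h.ncard_invols, Nat.cast_mul]
  have hd_one : d ∣ s * A * (B - 1) := by
    have h1 := h.spectral_dvd hW 1
    rw [← hs, ← he, ← hdz] at h1
    have hF : {a ∈ invols G | orderOf (a * (1 * a * 1⁻¹)) = p} = ∅ :=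
      Set.eq_empty_iff_forall_notMem.2 fun a ha => by
        have h2 := ha.2
        rw [one_mul, inv_one, mul_one, Invol.mul_self_eq_one ha.1, orderOf_one] at h2
        exact h.pprime.ne_one h2.symm
    have hπ : {a ∈ invols G | 1 * a * 1⁻¹ = a} = invols G :=
      Set.ext fun a => ⟨fun ha => ha.1, fun ha => ⟨ha, by simp⟩⟩
    rw [hF, hπ, Set.ncard_empty, hk, hn] at h1
    refine Int.natCast_dvd_natCast.1 ?_
    push_cast [Nat.cast_sub hB1.le]
    convert h1 using 1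
    push_cast
    ring
  have hlt := fun g => lt_of_div_dvd (g := g) hBodd hB1 hdodd (hd1.symm ▸ hBse)
  by_cases hpd : p ∣ d
  swap
  · have hc : Nat.Coprime d A := by
      rw [hA, hi]; exact (((h.pprime.coprime_iff_not_dvd).2 hpd).symm).pow_right i
    have h1 : d ∣ s * (B - 1) := by
      rw [show s * A * (B - 1) = A * (s * (B - 1)) by ring] at hd_one
      exact hc.dvd_of_dvd_mul_left hd_one
    have hg0 : 0 < Nat.gcd d s := Nat.gcd_pos_of_pos_right _ (by omega)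
    have hdiv : d / Nat.gcd d s ∣ B - 1 := by
      refine (Nat.coprime_div_gcd_div_gcd hg0).dvd_of_dvd_mul_left ?_
      rw [← Nat.mul_div_right_comm (Nat.gcd_dvd_right d s)]
      exact Nat.div_dvd_div (Nat.gcd_dvd_left d s) h1
    have := hlt _ (Nat.gcd_dvd_left d s) hdiv
    have := Nat.le_of_dvd (by omega : 0 < s) (Nat.gcd_dvd_right d s)
    omega
  -- `p` divides `d`
  have hgen : ∀ g : ℕ, g ∣ d → g ∣ A → g ∣ s - 1 := by
    intro g hgd hgA
    have h1 : (g : ℤ) ∣ (B : ℤ) * ((s : ℤ) - 1) := by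
      have : (B : ℤ) * ((s : ℤ) - 1) = ((d : ℕ) : ℤ) * ((B : ℤ) - 1) + A * ((s : ℤ) - B) := by
        rw [hdz]; linear_combination hid
      rw [this]
      exact dvd_add ((Int.natCast_dvd_natCast.2 hgd).mul_right _)
        ((Int.natCast_dvd_natCast.2 hgA).mul_right _)
    rw [show ((s : ℤ) - 1) = ((s - 1 : ℕ) : ℤ) by omega, ← Nat.cast_mul,
      Int.natCast_dvd_natCast] at h1
    exact (hcopAB.coprime_dvd_left hgA).dvd_of_dvd_mul_left h1
  have hpA : p ∣ A := by
    rw [hA, hi]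
    refine dvd_pow_self p ?_
    rintro rfl
    rw [hA, hi, pow_zero] at hA1
    exact lt_irrefl _ hA1
  have hpe : p ∣ e := by
    have h1 := Nat.dvd_sub hpd (hgen p hpd hpA)
    rwa [show d - (s - 1) = e by omega] at h1
  by_cases hWp : ∀ w ∈ Cfsg.centerThompsonAOf P, Commute w x
  · obtain ⟨z, hzW, hz1, hzc⟩ := h.exists_center_elt
    obtain ⟨hfix, hmov⟩ := h.central_moves hW hpe (h.symm.W_le hzW) hz1 hzc (hWp z hzW)
    have h1 := h.spectral_dvd hW z
    rw [← hs, ← he, ← hdz] at h1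
    have hπ : {a ∈ invols G | z * a * z⁻¹ = a} = cls P x :=
      Set.ext fun a => ⟨fun ha => (hfix a ha.1).1 ha.2,
        fun ha => ⟨h.cls_mem ha, (hfix a (h.cls_mem ha)).2 ha⟩⟩
    have hF : {a ∈ invols G | orderOf (a * (z * a * z⁻¹)) = p} = invols G \ cls P x :=
      Set.ext fun a => ⟨fun ha => ⟨ha.1, (hmov a ha.1).1 ha.2⟩,
        fun ha => ⟨ha.1, (hmov a ha.1).2 ha.2⟩⟩
    rw [hF, hπ, hk, Set.ncard_sdiff h.cls_subset (Set.toFinite _), h.ncard_invols, ← hA, ← hB] at h1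
    have h2 : d ∣ A * (B - 1) := by
      refine Int.natCast_dvd_natCast.1 ?_
      push_cast [Nat.cast_sub hB1.le]
      convert h1 using 1
      rw [Nat.cast_sub (Nat.le_mul_of_pos_right A (by omega)), Nat.cast_mul]
      ring
    have hg0 : 0 < Nat.gcd d A := Nat.gcd_pos_of_pos_right _ (by omega)
    have hdiv : d / Nat.gcd d A ∣ B - 1 := by
      refine (Nat.coprime_div_gcd_div_gcd hg0).dvd_of_dvd_mul_left ?_
      rw [← Nat.mul_div_right_comm (Nat.gcd_dvd_right d A)]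
      exact Nat.div_dvd_div (Nat.gcd_dvd_left d A) h2
    have hgB := hlt _ (Nat.gcd_dvd_left d A) hdiv
    have hgs := Nat.le_of_dvd (by omega : 0 < s - 1)
      (hgen _ (Nat.gcd_dvd_left d A) (Nat.gcd_dvd_right d A))
    omega
  · have hcong' : (A : ℤ) ∣ (B : ℤ) * s - 1 := h.symm.dvd_mul_sub_one hWp
    have h1 : (A : ℤ) ∣ ((B : ℤ) - 1) * (e * B + 1) := by
      have : ((B : ℤ) - 1) * (e * B + 1) = ((B : ℤ) * s - 1) + A * (B * B - B * s) := by
        linear_combination -(B : ℤ) * hid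
      rw [this]
      exact dvd_add hcong' (dvd_mul_right _ _)
    have hcop : Nat.Coprime A (e * B + 1) := by
      rw [hA, hi]
      refine ((h.pprime.coprime_iff_not_dvd).2 fun hp1 => h.pprime.ne_one ?_).pow_left i
      exact Nat.dvd_one.1 ((Nat.dvd_add_right (Dvd.dvd.mul_right hpe B)).1 hp1)
    rw [show ((B : ℤ) - 1) = ((B - 1 : ℕ) : ℤ) by omega,
      show ((e : ℤ) * B + 1) = ((e * B + 1 : ℕ) : ℤ) by push_cast; ring, ← Nat.cast_mul,
      Int.natCast_dvd_natCast] at h1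
    have h3 := Nat.le_of_dvd (by omega : 0 < B - 1) (hcop.dvd_of_dvd_mul_right h1)
    obtain ⟨c, hc⟩ := hBse
    have hBo := Nat.odd_iff.1 hBodd
    rcases c with _ | _ | c
    · omega
    · omega
    · have : B * (c + 1 + 1) = B * c + 2 * B := by ring
      omega

omit hW in
theorem absurd_cfg (h : Cfg K p r x P S) : False := by
  by_cases hr : r ∣ (cls P x).ncard - 1
  · exact h.symm.absurd_of_not_dvd fun hp => h.not_both_dvd ⟨hr, hp⟩
  · exact h.absurd_of_not_dvd hr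

end Cfg

end Cfsg.Agent.RankThreeInvol
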