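import Cfsg.Agent.RankThreeInvol.TwoType.Count
import Cfsg.Agent.S2793
import Cfsg.Agent.Fusion.LocalZ

/-!
# The centre of the Thompson subgroup of an invariant Sylow subgroup controls fusion
-/

set_option autoImplicit false

namespace Cfsg.Agent.RankThreeInvol

open Subgroup

variable {G : Type*} [Group G]

namespace Cfg

variable [Finite G] {K : Subgroup G} {p r : ℕ} {x : G} {P S : Subgroup G}

theorem rFact (h : Cfg K p r x P S) : Fact r.Prime := ⟨h.rprime⟩

theorem S_le (h : Cfg K p r x P S) : S ≤ K :=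
  have := h.rFact
  h.le_of_isPGroup h.rTwo h.Sinv.isPGroup

theorem S_le_normalizer_W (h : Cfg K p r x P S) :
    S ≤ normalizer (Cfsg.centerThompsonAOf S : Set G) := by
  intro g hg
  rw [Fusion.centerThompsonAOf_eq_zInter]
  exact Fusion.mem_normalizer_zInter (le_normalizer hg)

theorem x_normalizes_W (h : Cfg K p r x P S) :
    x ∈ normalizer (Cfsg.centerThompsonAOf S : Set G) := by
  rw [Fusion.centerThompsonAOf_eq_zInter]
  exact Fusion.mem_normalizer_zInter h.Sinv.normal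

theorem W_le (_h : Cfg K p r x P S) : Cfsg.centerThompsonAOf S ≤ S := by
  rw [Fusion.centerThompsonAOf_eq_zInter]
  exact Fusion.zInter_le 0 S

theorem W_comm (_h : Cfg K p r x P S) {a b : G} (ha : a ∈ Cfsg.centerThompsonAOf S)
    (hb : b ∈ Cfsg.centerThompsonAOf S) : Commute a b := by
  have := Fusion.zInter_comm 0 S
  rw [Fusion.centerThompsonAOf_eq_zInter] at ha hb
  exact setLike_mul_comm (s := Fusion.zInter 0 S) ha hb

theorem W_ne_bot (h : Cfg K p r x P S) : Cfsg.centerThompsonAOf S ≠ ⊥ := by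
  have := h.rFact
  have hS : S ≠ ⊥ := by
    intro he
    have h1 := h.symm.one_lt_ncard_cls
    have hsub : cls S x ⊆ {x} := by
      rintro _ ⟨g, hg, rfl⟩
      rw [he, mem_bot] at hg
      simp [hg]
    have := Set.ncard_le_ncard hsub (Set.toFinite _)
    rw [Set.ncard_singleton] at this
    omega
  rw [Fusion.centerThompsonAOf_eq_zInter]
  exact Fusion.zInter_ne_bot h.Sinv.isPGroup hS (dvd_zero r)

/-- Some Sylow subgroup of `K` containing `W` in which `N(W)` controls fusion. -/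
theorem exists_control (h : Cfg K p r x P S) :
    ∃ T : Sylow r K, Cfsg.centerThompsonAOf S ≤ (T : Subgroup K).map K.subtype ∧
      ∀ A : Set G, A ⊆ ((T : Subgroup K).map K.subtype : Subgroup G) → ∀ g ∈ K,
        (∀ a ∈ A, g * a * g⁻¹ ∈ (T : Subgroup K).map K.subtype) →
        ∃ n ∈ normalizer (Cfsg.centerThompsonAOf S : Set G), ∀ a ∈ A, g * a * g⁻¹ = n * a * n⁻¹ := by
  have := h.rFact
  obtain ⟨⟨S₀, hS₀⟩, -⟩ := id h.Sinv
  let S' : Sylow r K := S₀.subtype (hS₀ ▸ h.S_le)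
  have hS' : (S' : Subgroup K).map K.subtype = S := by
    show (S₀.toSubgroup.subgroupOf K).map K.subtype = S
    rw [hS₀, map_subgroupOf_eq_of_le h.S_le]
  have hW : (Cfsg.centerThompsonAOf (S' : Subgroup K)).map K.subtype = Cfsg.centerThompsonAOf S := by
    rw [Fusion.centerThompsonAOf_eq_zInter, Fusion.centerThompsonAOf_eq_zInter,
      Fusion.zInter_map K.subtype_injective, hS']
  have hctrl : Cfsg.ControlsStrongFusion r (Cfsg.centerThompsonAOf (S' : Subgroup K)) := by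
    by_contra hn
    obtain ⟨-, C, -, -, hC⟩ := S2793.result h.rTwo S' hn _ rfl
    have hd : r - 1 ∣ Nat.card K := by
      rw [← hC]
      exact (relIndex_dvd_card _ _).trans (card_subgroup_dvd_card _)
    have ho := h.rprime.odd_of_ne_two h.rTwo
    have he : Odd (r - 1) := h.odd.of_dvd_nat hd
    rw [Nat.odd_iff] at ho he
    omega
  obtain ⟨T, hT, hfus⟩ := hctrl
  refine ⟨T, hW ▸ map_mono hT, fun A hA g hg hgA => ?_⟩
  obtain ⟨-, h2⟩ := hfus {a : K | (a : G) ∈ A} (fun a ha => by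
    obtain ⟨b, hb, he⟩ := hA ha
    exact Subtype.ext he ▸ hb)
  obtain ⟨n, hn, hna⟩ := h2 ⟨g, hg⟩ (by
    rintro _ ⟨a, ha, rfl⟩
    obtain ⟨b, hb, he⟩ := hgA _ ha
    show ⟨g, hg⟩ * a * (⟨g, hg⟩ : K)⁻¹ ∈ (T : Subgroup K)
    rwa [show (⟨g, hg⟩ * a * (⟨g, hg⟩ : K)⁻¹ : K) = b from Subtype.ext he.symm])
  refine ⟨n, hW ▸ le_normalizer_map K.subtype ⟨n, hn, rfl⟩, fun a ha => ?_⟩
  obtain ⟨b, -, he⟩ := hA ha
  subst he
  exact congrArg Subtype.val (hna b ha)

/-- Fusion in `G` of subsets of that Sylow subgroup. -/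
theorem exists_control' (h : Cfg K p r x P S) :
    ∃ T : Subgroup G, (∃ g : G, T = S.map (MulAut.conj g).toMonoidHom) ∧
      Cfsg.centerThompsonAOf S ≤ T ∧
      ∀ A : Set G, A ⊆ (T : Set G) → ∀ g : G, (∀ a ∈ A, g * a * g⁻¹ ∈ T) →
        ∃ n ∈ normalizer (Cfsg.centerThompsonAOf S : Set G), ∀ a ∈ A, g * a * g⁻¹ = n * a * n⁻¹ := by
  have := h.rFact
  obtain ⟨T, hWT, hfus⟩ := h.exists_control
  set W := Cfsg.centerThompsonAOf S with hW
  set T' := (T : Subgroup K).map K.subtype with hT'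
  obtain ⟨⟨S₀, hS₀⟩, -⟩ := id h.Sinv
  obtain ⟨T₀, hT₀⟩ := (T.2.map K.subtype).exists_le_sylow
  obtain ⟨k, hk⟩ := MulAction.exists_smul_eq G S₀ T₀
  have hcard : Nat.card T' = Nat.card T₀ := by
    rw [hT', card_map_of_injective K.subtype_injective, T.card_eq_multiplicity,
      T₀.card_eq_multiplicity, ← K.card_mul_index, h.index,
      Nat.factorization_mul Nat.card_pos.ne' two_ne_zero, Finsupp.add_apply,
      Nat.prime_two.factorization, Finsupp.single_eq_of_ne h.rTwo, add_zero]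
  have hTT : T' = (T₀ : Subgroup G) := eq_of_le_of_card_ge hT₀ hcard.ge
  refine ⟨T', ⟨k, ?_⟩, hWT, ?_⟩
  · rw [hTT, ← hk, Sylow.coe_subgroup_smul, hS₀]; rfl
  -- an element outside `K` normalising both `W` and `T'`
  have hx := h.xD
  have hxW : x ∈ normalizer (W : Set G) := h.x_normalizes_W
  intro A hA g hgA
  by_cases hg : g ∈ K
  · exact hfus A hA g hg hgA
  -- move by `x`, which carries `T'` to a Sylow subgroup of `K` containing `W`
  have hgx : g * x ∈ K := h.mul_mem_iff.2 (iff_of_false hg (h.notMem hx))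
  have hwc : ∀ g ∈ K, W.map (MulAut.conj g).toMonoidHom ≤ T' →
      W.map (MulAut.conj g).toMonoidHom = W := by
    intro g hg hle
    obtain ⟨n, hn, hna⟩ := hfus W hWT g hg fun a ha => hle ⟨a, ha, rfl⟩
    refine Eq.trans ?_ (mem_normalizer_iff_map.1 hn)
    ext a
    constructor
    · rintro ⟨w, hw, rfl⟩
      exact ⟨w, hw, (hna w hw).symm⟩
    · rintro ⟨w, hw, rfl⟩
      exact ⟨w, hw, hna w hw⟩
  obtain ⟨j, hjK, hj⟩ : ∃ j ∈ K, T'.map (MulAut.conj x).toMonoidHom =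
      T'.map (MulAut.conj j).toMonoidHom := by
    set c := k * x * k⁻¹ with hc
    have hcD : c ∈ invols G := OddTwo.conj_mem hx k
    have hcN : T'.map (MulAut.conj c).toMonoidHom = T' := by
      have hS : S.map (MulAut.conj x).toMonoidHom = S := mem_normalizer_iff_map.1 h.Sinv.normal
      have hTk : T' = S.map (MulAut.conj k).toMonoidHom := by
        rw [hTT, ← hk, Sylow.coe_subgroup_smul, hS₀]; rfl
      rw [hTk, map_conj_map_conj, hc, inv_mul_cancel_right, ← map_conj_map_conj, hS]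
    refine ⟨x * c, h.mul_mem hx hcD, ?_⟩
    rw [← map_conj_map_conj, hcN]
  have hjW : j ∈ normalizer (W : Set G) := by
    have h1 : W.map (MulAut.conj j⁻¹).toMonoidHom ≤ T' := by
      have h2 : W ≤ T'.map (MulAut.conj j).toMonoidHom := by
        rw [← hj, ← mem_normalizer_iff_map.1 hxW]
        exact map_mono hWT
      have h3 := map_mono (f := (MulAut.conj j⁻¹).toMonoidHom) h2
      rwa [map_conj_map_conj, inv_mul_cancel, map_one, MulAut.one_def,
        show (MulEquiv.refl G).toMonoidHom = MonoidHom.id G from rfl, Subgroup.map_id] at h3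
    have := mem_normalizer_iff_map.2 (hwc j⁻¹ (inv_mem hjK) h1)
    simpa using inv_mem this
  have hxj : ∀ a ∈ T', j⁻¹ * (x * a * x⁻¹) * j ∈ T' := by
    intro a ha
    obtain ⟨b, hb, he⟩ := (hj ▸ ⟨a, ha, rfl⟩ : x * a * x⁻¹ ∈ T'.map (MulAut.conj j).toMonoidHom)
    have he' : j * b * j⁻¹ = x * a * x⁻¹ := he
    rwa [← he', show j⁻¹ * (j * b * j⁻¹) * j = b by group]
  -- apply fusion to the conjugated set
  have hg' : g * x⁻¹ * j ∈ K := K.mul_mem (by rwa [Invol.inv_eq_self hx]) hjK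
  obtain ⟨n, hn, hna⟩ := hfus {b | ∃ a ∈ A, j⁻¹ * (x * a * x⁻¹) * j = b}
    (by rintro _ ⟨a, ha, rfl⟩; exact hxj a (hA ha)) (g * x⁻¹ * j) hg' (by
      rintro _ ⟨a, ha, rfl⟩
      have h1 := hgA a ha
      rwa [show g * x⁻¹ * j * (j⁻¹ * (x * a * x⁻¹) * j) * (g * x⁻¹ * j)⁻¹ = g * a * g⁻¹ by group])
  refine ⟨n * (j⁻¹ * x), mul_mem hn (mul_mem (inv_mem hjW) hxW), fun a ha => ?_⟩
  have := hna _ ⟨a, ha, rfl⟩
  rw [show g * x⁻¹ * j * (j⁻¹ * (x * a * x⁻¹) * j) * (g * x⁻¹ * j)⁻¹ = g * a * g⁻¹ by group] at this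
  rw [this]
  group

/-- `W` is weakly closed in every conjugate of `S` containing it. -/
theorem weak (h : Cfg K p r x P S) {g : G}
    (hle : Cfsg.centerThompsonAOf S ≤ S.map (MulAut.conj g).toMonoidHom) :
    g ∈ normalizer (Cfsg.centerThompsonAOf S : Set G) := by
  set W := Cfsg.centerThompsonAOf S with hW
  obtain ⟨T, ⟨k, rfl⟩, hWT, hfus⟩ := h.exists_control'
  have hwc : ∀ a : G, W.map (MulAut.conj a).toMonoidHom ≤ S.map (MulAut.conj k).toMonoidHom →
      a ∈ normalizer (W : Set G) := by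
    intro a ha
    obtain ⟨n, hn, hna⟩ := hfus W hWT a fun w hw => ha ⟨w, hw, rfl⟩
    refine mem_normalizer_iff_map.2 (Eq.trans ?_ (mem_normalizer_iff_map.1 hn))
    ext b
    constructor
    · rintro ⟨w, hw, rfl⟩
      exact ⟨w, hw, (hna w hw).symm⟩
    · rintro ⟨w, hw, rfl⟩
      exact ⟨w, hw, hna w hw⟩
  have hk : k ∈ normalizer (W : Set G) :=
    hwc k (map_mono h.W_le)
  have h1 : k * g⁻¹ ∈ normalizer (W : Set G) := hwc (k * g⁻¹) (by
    have h2 := map_mono (f := (MulAut.conj (k * g⁻¹)).toMonoidHom) hle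
    rwa [map_conj_map_conj, inv_mul_cancel_right] at h2)
  have h2 := mul_mem (inv_mem h1) hk
  rwa [mul_inv_rev, inv_inv, inv_mul_cancel_right] at h2

/-- `N(W)` controls fusion in `S`. -/
theorem fusion (h : Cfg K p r x P S) (A : Set G) (hA : A ⊆ (S : Set G)) (g : G)
    (hg : ∀ a ∈ A, g * a * g⁻¹ ∈ S) :
    ∃ n ∈ normalizer (Cfsg.centerThompsonAOf S : Set G), ∀ a ∈ A, g * a * g⁻¹ = n * a * n⁻¹ := by
  obtain ⟨T, ⟨k, rfl⟩, hWT, hfus⟩ := h.exists_control'
  have hk := h.weak hWT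
  obtain ⟨n, hn, hna⟩ := hfus ((fun a => k * a * k⁻¹) '' A)
    (by rintro _ ⟨a, ha, rfl⟩; exact ⟨a, hA ha, rfl⟩) (k * g * k⁻¹) (by
      rintro _ ⟨a, ha, rfl⟩
      refine ⟨g * a * g⁻¹, hg a ha, ?_⟩
      show k * (g * a * g⁻¹) * k⁻¹ = _
      group)
  refine ⟨k⁻¹ * n * k, mul_mem (mul_mem (inv_mem hk) hn) hk, fun a ha => ?_⟩
  have := congrArg (fun b => k⁻¹ * b * k) (hna _ ⟨a, ha, rfl⟩)
  simpa [mul_assoc] using this

end Cfg

end Cfsg.Agent.RankThreeInvol
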