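import Cfsg.Agent.RankThreeInvol.TwoType.Degenerate
import Cfsg.Agent.RankThreeInvol.TwoType.ZJ

/-!
# The case that `Z(J(S))` centralises the base involution
-/

set_option autoImplicit false

namespace Cfsg.Agent.RankThreeInvol

open Subgroup

variable {G : Type*} [Group G]

/-- The stabiliser of a set under conjugation. -/
def imgStab (Q : Set G) : Subgroup G where
  carrier := {g | img g Q = Q}
  one_mem' := img_one Q
  mul_mem' := fun {a b} ha hb => by
    show img (a * b) Q = Q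
    rw [← img_img, show img b Q = Q from hb, show img a Q = Q from ha]
  inv_mem' := fun {a} ha => by
    show img a⁻¹ Q = Q
    have h := congrArg (img a⁻¹) (show img a Q = Q from ha)
    rw [img_img, inv_mul_cancel, img_one] at h
    exact h.symm

theorem mem_imgStab {g : G} {Q : Set G} : g ∈ imgStab Q ↔ img g Q = Q := Iff.rfl

theorem img_cls_self [Finite G] {S : Subgroup G} {s : G} (hs : s ∈ S) (x : G) :
    img s (cls S x) = cls S x := by
  refine Set.eq_of_subset_of_ncard_le ?_ (le_of_eq (ncard_img s _).symm) (Set.toFinite _)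
  rintro _ ⟨_, ⟨g, hg, rfl⟩, rfl⟩
  exact ⟨s * g, S.mul_mem hs hg, by group⟩

/-- A `p`-group of conjugations fixes as many members of an invariant family as it has, modulo `p`. -/
theorem ncard_modEq_fixed [Finite G] {q : ℕ} [Fact q.Prime] {H : Subgroup G} (hH : IsPGroup q H)
    (X : Set (Set G)) (hX : ∀ g ∈ H, ∀ Q ∈ X, img g Q ∈ X) :
    X.ncard ≡ {Q ∈ X | ∀ g ∈ H, img g Q = Q}.ncard [MOD q] := by
  let _ : MulAction H X :=
    { smul := fun g Q => ⟨img (g : G) Q.1, hX g g.2 Q.1 Q.2⟩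
      one_smul := fun Q => Subtype.ext (img_one Q.1)
      mul_smul := fun g k Q => Subtype.ext (img_img (g : G) (k : G) Q.1).symm }
  have := hH.card_modEq_card_fixedPoints X
  rw [Nat.card_coe_set_eq] at this
  convert this using 1
  rw [← Nat.card_coe_set_eq]
  exact Nat.card_congr
    { toFun := fun Q => ⟨⟨Q.1, Q.2.1⟩, fun g => Subtype.ext (Q.2.2 g g.2)⟩
      invFun := fun Q => ⟨Q.1.1, Q.1.2, fun g hg => congrArg Subtype.val (Q.2 ⟨g, hg⟩)⟩
      left_inv := fun _ => rfl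
      right_inv := fun _ => rfl }

namespace Cfg

variable [Finite G] {K : Subgroup G} {p r : ℕ} {x : G} {P S : Subgroup G}

theorem trs_count (h : Cfg K p r x P S) :
    (trs (cls S x)).ncard =
      (cls P x).ncard * {Q ∈ trs (cls S x) | x ∈ Q}.ncard := by
  classical
  obtain ⟨T, hT⟩ := (Set.toFinite (trs (cls S x))).exists_finset_coe
  obtain ⟨D, hD⟩ := (Set.toFinite (invols G)).exists_finset_coe
  have hsum : ∑ d ∈ D, (T.filter fun Q => d ∈ Q).card = ∑ Q ∈ T, (D.filter fun d => d ∈ Q).card :=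
    Finset.sum_card_bipartiteAbove_eq_sum_card_bipartiteBelow fun (d : G) (Q : Set G) => d ∈ Q
  have h1 : ∀ d ∈ D, (T.filter fun Q => d ∈ Q).card = {Q ∈ trs (cls S x) | x ∈ Q}.ncard := by
    intro d hd
    rw [← h.through_ncard (show d ∈ invols G from hD ▸ hd) (cls S x), ← Set.ncard_coe_finset,
      Finset.coe_filter]
    congr 1
    ext Q
    simp only [Set.mem_ofPred_eq, ← Finset.mem_coe, hT]
  have h2 : ∀ Q ∈ T, (D.filter fun d => d ∈ Q).card = (cls S x).ncard := by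
    intro Q hQ
    have hQ' : Q ∈ trs (cls S x) := hT ▸ hQ
    rw [← trs_ncard hQ', ← Set.ncard_coe_finset, Finset.coe_filter]
    congr 1
    ext d
    simp only [Set.mem_ofPred_eq, ← Finset.mem_coe, hD]
    exact ⟨fun hd => hd.2, fun hd => ⟨h.symm.trs_subset hQ' hd, hd⟩⟩
  rw [Finset.sum_congr rfl h1, Finset.sum_congr rfl h2, Finset.sum_const, Finset.sum_const,
    smul_eq_mul, smul_eq_mul] at hsum
  rw [show (trs (cls S x)).ncard = T.card by rw [← hT, Set.ncard_coe_finset]]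
  refine Nat.eq_of_mul_eq_mul_right (m := (cls S x).ncard)
    (by have := h.symm.one_lt_ncard_cls; omega) ?_
  rw [← hsum, ← Set.ncard_coe_finset, hD, h.ncard_invols]
  ring

theorem normal_eq_bot_of_le_center (h : Cfg K p r x P S)
    (hW : normalizer (Cfsg.centerThompsonAOf S : Set G) = ⊤) : False := by
  refine h.W_ne_bot (h.rad _ (normalizer_eq_top_iff.1 hW) (h.W_le.trans h.S_le) ?_)
  exact Group.isSolvable_of_comm fun a b => Subtype.ext (h.W_comm a.2 b.2).eq

/-- If `Z(J(S))` centralises `x`, the involutions centralising it form a single coclique. -/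
theorem centralizing_eq (h : Cfg K p r x P S)
    (hc : ∀ w ∈ Cfsg.centerThompsonAOf S, Commute w x) {v : G} (hv : v ∈ invols G)
    (hvW : ∀ w ∈ Cfsg.centerThompsonAOf S, Commute w v) : v ∈ cls S x := by
  set W := Cfsg.centerThompsonAOf S with hW
  set L := normalizer (W : Set G) with hL
  set Φ := invols G ∩ (L : Set G) with hΦ
  have hLne : L ≠ ⊤ := fun he => h.normal_eq_bot_of_le_center he
  have hxL : x ∈ L := h.x_normalizes_W
  have hconjW : ∀ g ∈ L, ∀ d : G, (∀ w ∈ W, Commute w d) → ∀ w ∈ W, Commute w (g * d * g⁻¹) := by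
    intro g hg d hd w hw
    have h1 := (Commute.conj_iff g).2 (hd _ ((mem_normalizer_iff.1 (inv_mem hg) w).1 hw))
    rwa [show g * (g⁻¹ * w * g⁻¹⁻¹) * g⁻¹ = w by group] at h1
  have hcen : ∀ d ∈ Φ, ∀ w ∈ W, Commute w d := by
    intro d hd
    have := hconjW (mid x d) (mid_mem_subgroup hxL hd.2) x hc
    rwa [h.mid_conj' h.xD hd.1] at this
  have hmemL : ∀ d : G, (∀ w ∈ W, Commute w d) → d ∈ L := fun d hd => by
    refine Invol.mem_normalizer_of_conj_le ?_
    rintro _ ⟨w, hw, rfl⟩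
    show d * w * d⁻¹ ∈ W
    rwa [← (hd w hw).eq, mul_inv_cancel_right]
  have hwitt : ∀ a ∈ invols G, a ∈ L → ∀ b ∈ invols G, b ∈ L → ∀ b' ∈ invols G, b' ∈ L →
      a ≠ b → a ≠ b' → orderOf (a * b) = orderOf (a * b') →
      ∃ g ∈ L, Commute g a ∧ g * b * g⁻¹ = b' := by
    intro a ha haL b hb hbL b' hb' hb'L hab hab' ho
    have := h.rFact
    obtain ⟨g, hga, hg⟩ := h.trans a ha b hb b' hb' hab hab' ho
    set M := centralizer ({a} : Set G) ⊓ centralizer ({b'} : Set G) with hM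
    have hWM : W ≤ M := fun w hw => mem_inf.2
      ⟨mem_centralizer_singleton_iff.2 (hcen a ⟨ha, haL⟩ w hw).eq,
        mem_centralizer_singleton_iff.2 (hcen b' ⟨hb', hb'L⟩ w hw).eq⟩
    have hW'M : W.map (MulAut.conj g).toMonoidHom ≤ M := by
      rintro _ ⟨w, hw, rfl⟩
      refine mem_inf.2 ⟨mem_centralizer_singleton_iff.2 ?_, mem_centralizer_singleton_iff.2 ?_⟩
      · have h1 := (Commute.conj_iff g).2 (hcen a ⟨ha, haL⟩ w hw)
        rw [show g * a * g⁻¹ = a by rw [hga.eq, mul_inv_cancel_right]] at h1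
        exact h1.eq
      · rw [← hg]
        exact ((Commute.conj_iff g).2 (hcen b ⟨hb, hbL⟩ w hw)).eq
    have hWp : IsPGroup r W := h.Sinv.isPGroup.to_le h.W_le
    obtain ⟨P1, hP1⟩ := (hWp.comap_subtype (K := M)).exists_le_sylow
    obtain ⟨P2, hP2⟩ := ((hWp.map (MulAut.conj g).toMonoidHom).comap_subtype (K := M)).exists_le_sylow
    obtain ⟨c, hc'⟩ := MulAction.exists_smul_eq M P2 P1
    obtain ⟨U, hU⟩ := (P1.2.map M.subtype).exists_le_sylow
    obtain ⟨⟨S₀, hS₀⟩, -⟩ := id h.Sinv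
    obtain ⟨k, hk⟩ := MulAction.exists_smul_eq G S₀ U
    have hUk : (U : Subgroup G) = S.map (MulAut.conj k).toMonoidHom := by
      rw [← hk, Sylow.coe_subgroup_smul, hS₀]; rfl
    have hkW : k ∈ L := h.weak (fun w hw => hUk ▸ hU ⟨⟨w, hWM hw⟩, hP1 hw, rfl⟩)
    refine ⟨(c : G) * g, ?_, ?_, ?_⟩
    · have h1 : W.map (MulAut.conj ((c : G) * g)).toMonoidHom ≤
          S.map (MulAut.conj k).toMonoidHom := by
        rw [← hUk]
        rintro _ ⟨w, hw, rfl⟩
        have hw' : g * w * g⁻¹ ∈ W.map (MulAut.conj g).toMonoidHom := ⟨w, hw, rfl⟩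
        have hmem : (⟨g * w * g⁻¹, hW'M hw'⟩ : M) ∈ (P2 : Subgroup M) := hP2 hw'
        have h2 : c * ⟨g * w * g⁻¹, hW'M hw'⟩ * c⁻¹ ∈ (P1 : Subgroup M) := by
          rw [← hc', Sylow.coe_subgroup_smul]
          exact ⟨_, hmem, rfl⟩
        refine hU ⟨_, h2, ?_⟩
        show (c : G) * (g * w * g⁻¹) * (c : G)⁻¹ = (c : G) * g * w * ((c : G) * g)⁻¹
        group
      have h3 : W ≤ S.map (MulAut.conj (((c : G) * g)⁻¹ * k)).toMonoidHom := by
        intro w hw
        obtain ⟨s, hs, he⟩ := h1 ⟨w, hw, rfl⟩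
        refine ⟨s, hs, ?_⟩
        have he' : k * s * k⁻¹ = (c : G) * g * w * ((c : G) * g)⁻¹ := he
        show ((c : G) * g)⁻¹ * k * s * (((c : G) * g)⁻¹ * k)⁻¹ = w
        rw [show ((c : G) * g)⁻¹ * k * s * (((c : G) * g)⁻¹ * k)⁻¹ =
          ((c : G) * g)⁻¹ * (k * s * k⁻¹) * ((c : G) * g) by group, he']
        group
      have h4 := mul_mem (h.weak h3) (inv_mem hkW)
      rw [mul_inv_cancel_right] at h4
      simpa using inv_mem h4
    · exact (Commute.mul_left (mem_centralizer_singleton_iff.1 (mem_inf.1 c.2).1) hga)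
    · have hcb : Commute (c : G) b' := mem_centralizer_singleton_iff.1 (mem_inf.1 c.2).2
      rw [show (c : G) * g * b * ((c : G) * g)⁻¹ = (c : G) * (g * b * g⁻¹) * (c : G)⁻¹ by group, hg,
        hcb.eq, mul_inv_cancel_right]
  by_contra hvR
  have hvΦ : v ∈ Φ := ⟨hv, hmemL v hvW⟩
  have hxv : x ≠ v := fun he => hvR (he ▸ self_mem_cls S x)
  have hsol := h.indSolv L hLne hwitt
  -- a minimal subgroup inverted in part
  have hΦconj : ∀ g ∈ L, ∀ d ∈ Φ, g * d * g⁻¹ ∈ Φ := fun g hg d hd =>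
    ⟨OddTwo.conj_mem hd.1 g, L.mul_mem (L.mul_mem hg hd.2) (L.inv_mem hg)⟩
  set M := closure Φ ⊓ K with hM
  have hMn : ∀ g ∈ L, g ∈ normalizer (M : Set G) := fun g hg => by
    refine Invol.mem_normalizer_of_conj_le ?_
    rw [hM]
    refine (map_inf_le _ _ _).trans (inf_le_inf ?_ ?_)
    · rw [MonoidHom.map_closure]
      refine (closure_le _).2 ?_
      rintro _ ⟨d, hd, rfl⟩
      exact subset_closure (hΦconj g hg d hd)
    · rintro _ ⟨a, ha, rfl⟩
      exact h.normal.conj_mem a ha g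
  obtain ⟨V, ⟨hVM, hVn, v₁, hv₁, hxv₁⟩, hmin⟩ := (Set.toFinite {V : Subgroup G | V ≤ M ∧
      (∀ g ∈ L, g ∈ normalizer (V : Set G)) ∧ ∃ a ∈ V, ¬ Commute x a}).exists_minimalFor
    (fun V : Subgroup G => V) _ ⟨M, le_rfl, hMn, x * v,
      ⟨mul_mem (subset_closure (show x ∈ Φ from ⟨h.xD, hxL⟩)) (subset_closure hvΦ),
        h.mul_mem h.xD hv⟩,
      fun hc0 => hxv (h.eq_of_commute h.xD hv (by
        have := (Commute.refl x).mul_right hc0
        rwa [Invol.mul_mul_cancel_self h.xD] at this))⟩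
  have : Group.IsSolvable (closure Φ) := hsol
  have hVs : Group.IsSolvable V :=
    Group.isSolvable_of_isSolvable_injective
      (inclusion_injective (hVM.trans inf_le_left : V ≤ closure Φ))
  have : Nontrivial V := ⟨⟨⟨v₁, hv₁⟩, 1, fun he => hxv₁ (by
    rw [show v₁ = 1 from congrArg Subtype.val he]; exact Commute.one_right x)⟩⟩
  have hV'lt : (commutator V).map V.subtype < V := by
    refine lt_of_le_of_ne (map_subtype_le _) fun he => ?_
    refine (Group.IsSolvable.commutator_lt_top_of_nontrivial (G := V)).ne (eq_top_iff.2 fun a _ => ?_)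
    have h1 : (a : G) ∈ (commutator V).map V.subtype := he.symm ▸ a.2
    obtain ⟨b, hb, hba⟩ := h1
    exact Subtype.ext hba ▸ hb
  have hV'c : ∀ a ∈ (commutator V).map V.subtype, Commute x a := by
    by_contra hne
    push Not at hne
    refine hV'lt.not_ge (hmin ⟨(map_subtype_le _).trans hVM, fun g hg => ?_, hne⟩ hV'lt.le)
    rw [map_subtype_commutator, mem_normalizer_iff_map, map_commutator,
      mem_normalizer_iff_map.1 (hVn g hg)]
  have hxV : x ∈ normalizer (V : Set G) := hVn x hxL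
  have hblk : ∀ u ∈ cls V x, u ∈ Φ ∧ x * u ∈ V := by
    rintro _ ⟨g, hg, rfl⟩
    refine ⟨⟨OddTwo.conj_mem h.xD g, ?_⟩, ?_⟩
    · have hgL : g ∈ L := by
        have h1 : closure Φ ≤ L := (closure_le _).2 fun d hd => hd.2
        exact h1 (hVM hg).1
      exact L.mul_mem (L.mul_mem hgL hxL) (L.inv_mem hgL)
    · rw [show x * (g * x * g⁻¹) = x * g * x⁻¹ * g⁻¹ by
        rw [Invol.inv_eq_self h.xD]; simp only [mul_assoc]]
      exact mul_mem ((mem_normalizer_iff.1 hxV g).1 hg) (inv_mem hg)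
  have hnot_mixed : ∀ u₁ ∈ cls V x, ∀ u₂ ∈ cls V x, orderOf (x * u₁) = p →
      orderOf (x * u₂) ≠ r := by
    intro u₁ hu₁ u₂ hu₂ h1 h2
    set a₁ : V := ⟨x * u₁, (hblk u₁ hu₁).2⟩ with ha₁
    set a₂ : V := ⟨x * u₂, (hblk u₂ hu₂).2⟩ with ha₂
    set g : V := a₁ * a₂ with hg
    have hu : (g : G) * x * (g : G)⁻¹ ∈ cls V x := ⟨_, g.2, rfl⟩
    set c : V := ⟨x * ((g : G) * x * (g : G)⁻¹), (hblk _ hu).2⟩ with hc0
    have hD1 : u₁ ∈ invols G := (hblk u₁ hu₁).1.1
    have hD2 : u₂ ∈ invols G := (hblk u₂ hu₂).1.1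
    have hcv : c = a₁⁻¹ * a₂⁻¹ * g⁻¹ := by
      refine Subtype.ext ?_
      show x * ((g : G) * x * (g : G)⁻¹) = (x * u₁)⁻¹ * (x * u₂)⁻¹ * (g : G)⁻¹
      rw [← conj_prod h.xD hD1, ← conj_prod h.xD hD2, hg, Subgroup.coe_mul, ha₁, ha₂]
      show x * (x * u₁ * (x * u₂) * x * (x * u₁ * (x * u₂))⁻¹) =
        x * (x * u₁) * x * (x * (x * u₂) * x) * (x * u₁ * (x * u₂))⁻¹
      rw [show x * (x * u₁) * x * (x * (x * u₂) * x) = x * (x * u₁) * (x * x) * (x * u₂) * x by
        simp only [mul_assoc], Invol.mul_self_eq_one h.xD, mul_one]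
      simp only [mul_assoc]
    let π := Abelianization.of (G := V)
    have e1 : π c = (π a₁)⁻¹ ^ 2 * (π a₂)⁻¹ ^ 2 := by
      rw [hcv, hg, map_mul, map_mul, map_inv, map_inv, map_inv, map_mul, mul_inv_rev, pow_two,
        pow_two]
      simp only [mul_comm, mul_left_comm, mul_assoc]
    have hkill : ∀ (a : V) (u : G) (q : ℕ), (a : G) = x * u → u ∈ invols G → q.Prime →
        orderOf (x * u) = q → π a ≠ 1 := by
      intro a u q hau hu hq ho hpi
      have hmem : (a : G) ∈ (commutator V).map V.subtype :=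
        ⟨a, by rwa [← MonoidHom.mem_ker, Abelianization.ker_of] at hpi, rfl⟩
      have hcomm := hV'c _ hmem
      rw [hau] at hcomm
      have h1 := eq_one_of_inverted hcomm ((conj_eq h.xD _).trans (conj_prod h.xD hu))
        (h.odd_mul h.xD hu)
      rw [h1, orderOf_one] at ho
      exact hq.ne_one ho.symm
    have hord : orderOf c ∣ p ∨ orderOf c ∣ r := by
      rw [← orderOf_submonoid c]
      rcases eq_or_ne x ((g : G) * x * (g : G)⁻¹) with he | he
      · left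
        show orderOf (x * ((g : G) * x * (g : G)⁻¹)) ∣ p
        rw [← he, Invol.mul_self_eq_one h.xD, orderOf_one]
        exact one_dvd p
      · rcases h.order x h.xD _ (hblk _ hu).1.1 he with h3 | h3
        · exact Or.inl h3.dvd
        · exact Or.inr h3.dvd
    have hp1 : (π a₁) ^ p = 1 := by
      rw [← map_pow, show a₁ ^ p = 1 from Subtype.ext (by
        rw [SubmonoidClass.coe_pow]; exact h1 ▸ pow_orderOf_eq_one (x * u₁)), map_one]
    have hr2 : (π a₂) ^ r = 1 := by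
      rw [← map_pow, show a₂ ^ r = 1 from Subtype.ext (by
        rw [SubmonoidClass.coe_pow]; exact h2 ▸ pow_orderOf_eq_one (x * u₂)), map_one]
    have hcop : Nat.Coprime p r := (Nat.coprime_primes h.pprime h.rprime).2 h.pr
    rcases hord with hd | hd
    · have h3 : π c ^ p = 1 := by rw [← map_pow, orderOf_dvd_iff_pow_eq_one.1 hd, map_one]
      rw [e1, mul_pow, inv_pow, inv_pow, inv_pow, inv_pow, ← pow_mul, ← pow_mul, mul_comm 2 p,
        pow_mul, hp1, one_pow, inv_one, one_mul, inv_eq_one] at h3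
      refine hkill a₂ u₂ r rfl hD2 h.rprime h2 ?_
      have hg2 := pow_gcd_eq_one.2 ⟨h3, hr2⟩
      rwa [show Nat.gcd (p * 2) r = 1 from Nat.Coprime.mul_left hcop
        ((Nat.coprime_primes Nat.prime_two h.rprime).2 h.rTwo.symm), pow_one] at hg2
    · have h3 : π c ^ r = 1 := by rw [← map_pow, orderOf_dvd_iff_pow_eq_one.1 hd, map_one]
      rw [e1, mul_pow, inv_pow, inv_pow, inv_pow, inv_pow, ← pow_mul, ← pow_mul, mul_comm 2 r,
        pow_mul (π a₂), hr2, one_pow, inv_one, mul_one, inv_eq_one] at h3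
      refine hkill a₁ u₁ p rfl hD1 h.pprime h1 ?_
      have hg2 := pow_gcd_eq_one.2 ⟨h3, hp1⟩
      rwa [show Nat.gcd (r * 2) p = 1 from Nat.Coprime.mul_left hcop.symm
        ((Nat.coprime_primes Nat.prime_two h.pprime).2 h.pTwo.symm), pow_one] at hg2
  obtain ⟨u₀, hu₀, hu₀ne⟩ : ∃ u ∈ cls V x, u ≠ x :=
    ⟨_, ⟨v₁, hv₁, rfl⟩, fun he => hxv₁ (mul_inv_eq_iff_eq_mul.1 he).symm⟩
  set q := orderOf (x * u₀) with hq
  have hsame : ∀ u ∈ cls V x, x ≠ u → orderOf (x * u) = q := by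
    intro u hu hne
    rcases h.order x h.xD u (hblk u hu).1.1 hne with h1 | h1 <;>
      rcases h.order x h.xD u₀ (hblk u₀ hu₀).1.1 hu₀ne.symm with h2 | h2
    · exact h1.trans h2.symm
    · exact absurd h2 (hnot_mixed u hu u₀ hu₀ h1)
    · exact absurd h1 (hnot_mixed u₀ hu₀ u hu h2)
    · exact h1.trans h2.symm
  have hall : ∀ w ∈ Φ, x ≠ w → orderOf (x * w) = q → w ∈ cls V x := by
    intro w hw hne ho
    obtain ⟨g, hgL, hgx, hg⟩ := hwitt x h.xD hxL u₀ (hblk u₀ hu₀).1.1 (hblk u₀ hu₀).1.2 w hw.1 hw.2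
      hu₀ne.symm hne ho.symm
    obtain ⟨a, ha, he⟩ := hu₀
    refine ⟨g * a * g⁻¹, (mem_normalizer_iff.1 (hVn g hgL) a).1 ha, ?_⟩
    rw [← hg, ← he, show g * a * g⁻¹ * x * (g * a * g⁻¹)⁻¹ = g * a * (g⁻¹ * x * g) * a⁻¹ * g⁻¹ by
      group, show g⁻¹ * x * g = x by rw [mul_assoc, ← hgx.eq, inv_mul_cancel_left]]
    group
  have hequiv : ∀ a ∈ Φ, ∀ b ∈ Φ, ∀ c ∈ Φ, orderOf (a * b) = q → orderOf (b * c) = q →
      a = c ∨ orderOf (a * c) = q := by
    intro a ha b hb c hc0 h1 h2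
    set g := mid x b with hg
    have hgL : g ∈ L := mid_mem_subgroup hxL hb.2
    have hgb : g⁻¹ * b * g = x := by
      rw [← h.mid_conj' h.xD hb.1, ← hg]; group
    have hmv : ∀ d ∈ Φ, orderOf (b * d) = q → g⁻¹ * d * g ∈ cls V x := by
      intro d hd ho
      have hd' : g⁻¹ * d * g ∈ Φ := by simpa using hΦconj g⁻¹ (L.inv_mem hgL) d hd
      have ho' : orderOf (x * (g⁻¹ * d * g)) = q := by
        have := orderOf_mul_img g⁻¹ b d
        rw [inv_inv, hgb] at this
        rw [this, ho]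
      refine hall _ hd' (fun he => ?_) ho'
      rw [← he, Invol.mul_self_eq_one h.xD, orderOf_one, hq] at ho'
      exact hu₀ne (eq_of_mul_eq_one (hblk u₀ hu₀).1.1 (orderOf_eq_one_iff.1 ho'.symm)).symm
    obtain ⟨s, hs, hsa⟩ := hmv a ha (by rwa [orderOf_prod_comm ha.1 hb.1])
    obtain ⟨t, ht, htc⟩ := hmv c hc0 h2
    rcases eq_or_ne a c with hac | hac
    · exact Or.inl hac
    refine Or.inr ?_
    rw [← orderOf_mul_img g⁻¹ a c, inv_inv, ← hsa, ← htc,
      ← orderOf_mul_img s⁻¹ (s * x * s⁻¹) (t * x * t⁻¹)]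
    rw [show s⁻¹ * (s * x * s⁻¹) * s⁻¹⁻¹ = x by group,
      show s⁻¹ * (t * x * t⁻¹) * s⁻¹⁻¹ = s⁻¹ * t * x * (s⁻¹ * t)⁻¹ by group]
    refine hsame _ ⟨s⁻¹ * t, mul_mem (inv_mem hs) ht, rfl⟩ fun he => hac ?_
    have h5 : s * x * s⁻¹ = t * x * t⁻¹ := by
      conv_lhs => rw [he]
      group
    rw [hsa, htc] at h5
    exact mul_left_cancel (mul_right_cancel h5)
  have hR : cls S x ⊆ Φ := by
    rintro _ ⟨g, hg, rfl⟩
    exact hΦconj g (h.S_le_normalizer_W hg) x ⟨h.xD, hxL⟩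
  have hcard := (h.nnb hv (R := cls S x) ⟨1, img_one _⟩ hvR).1
  obtain ⟨u, hu, u', hu', huu⟩ :=
    (Set.one_lt_ncard (Set.toFinite _)).1 (by rw [hcard]; exact h.one_lt_sg)
  obtain ⟨z, hz, hzn⟩ : ∃ z ∈ cls S x, z ∉ nbr p v := by
    by_contra hne
    push Not at hne
    have : (nbr p v ∩ cls S x).ncard = (cls S x).ncard := by
      rw [Set.inter_eq_right.2 fun a ha => hne a ha]
    have := h.sg_lt
    omega
  have hvz : orderOf (v * z) = r := by
    have hne : v ≠ z := fun he => hvR (he ▸ hz)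
    exact (h.order v hv z (hR hz).1 hne).resolve_left fun h1 => hzn ⟨(hR hz).1, h1⟩
  rcases h.order x h.xD u₀ (hblk u₀ hu₀).1.1 hu₀ne.symm with h1 | h1
  · have hqp : q = p := h1
    rcases hequiv u (hR hu.2) v hvΦ u' (hR hu'.2)
      (hqp ▸ (orderOf_prod_comm hv (hR hu.2).1).trans hu.1.2) (hqp ▸ hu'.1.2) with h3 | h3
    · exact huu h3
    · exact h.not_both (h3.trans hqp) (h.symm.clique hu.2 hu'.2 huu)
  · have hqr : q = r := h1
    have hzu : z ≠ u := fun he => hzn (he ▸ hu.1)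
    rcases hequiv v hvΦ z (hR hz) u (hR hu.2) (hqr ▸ hvz)
      (hqr ▸ h.symm.clique hz hu.2 hzu) with h3 | h3
    · exact hvR (h3 ▸ hu.2)
    · exact h.not_both hu.1.2 (h3.trans hqr)

/-- If `Z(J(S))` centralises `x`, then `r` divides `|cls P x| - 1`. -/
theorem dvd_of_central (h : Cfg K p r x P S)
    (hc : ∀ w ∈ Cfsg.centerThompsonAOf S, Commute w x) : r ∣ (cls P x).ncard - 1 := by
  have := h.rFact
  set W := Cfsg.centerThompsonAOf S with hW
  have hR1 : ∀ w ∈ W, ∀ u ∈ cls S x, Commute w u := by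
    intro w hw u hu
    obtain ⟨g, hg, rfl⟩ := hu
    have h1 := (Commute.conj_iff g).2
      (hc _ ((mem_normalizer_iff.1 (inv_mem (h.S_le_normalizer_W hg)) w).1 hw))
    rwa [show g * (g⁻¹ * w * g⁻¹⁻¹) * g⁻¹ = w by group] at h1
  have honly : ∀ Q ∈ trs (cls S x), (∀ w ∈ W, img w Q = Q) → Q = cls S x := by
    rintro Q ⟨g, rfl⟩ hfix
    set M := imgStab (img g (cls S x)) with hM
    have hSM : S.map (MulAut.conj g).toMonoidHom ≤ M := by
      rintro _ ⟨s, hs, rfl⟩
      show img (g * s * g⁻¹) (img g (cls S x)) = _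
      rw [img_img, inv_mul_cancel_right, ← img_img, img_cls_self hs]
    obtain ⟨⟨S₀, hS₀⟩, -⟩ := id h.Sinv
    have hgS : ((g • S₀ : Sylow r G) : Subgroup G) = S.map (MulAut.conj g).toMonoidHom := by
      rw [Sylow.coe_subgroup_smul, hS₀]; rfl
    let U : Sylow r M := (g • S₀).subtype (hgS ▸ hSM)
    obtain ⟨U', hU'⟩ :=
      ((h.Sinv.isPGroup.to_le h.W_le).comap_subtype (K := M)).exists_le_sylow
    obtain ⟨c, hc'⟩ := MulAction.exists_smul_eq M U U'
    have hle : W ≤ S.map (MulAut.conj ((c : G) * g)).toMonoidHom := by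
      intro w hw
      have h1 : (⟨w, hfix w hw⟩ : M) ∈ (U' : Subgroup M) := hU' hw
      rw [← hc', Sylow.coe_subgroup_smul] at h1
      obtain ⟨a, ha, he⟩ := h1
      have ha' : (a : G) ∈ ((g • S₀ : Sylow r G) : Subgroup G) := ha
      rw [hgS] at ha'
      obtain ⟨s, hs, hse⟩ := ha'
      refine ⟨s, hs, ?_⟩
      have he' : (c : G) * (a : G) * (c : G)⁻¹ = w := congrArg Subtype.val he
      rw [← he', ← show g * s * g⁻¹ = (a : G) from hse]
      show (c : G) * g * s * ((c : G) * g)⁻¹ = _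
      group
    have hn := h.weak hle
    have hQ : img g (cls S x) = img ((c : G) * g) (cls S x) := by
      rw [← img_img]; exact c.2.symm
    show img g (cls S x) = cls S x
    rw [hQ]
    refine Set.eq_of_subset_of_ncard_le ?_ (le_of_eq (ncard_img _ _).symm) (Set.toFinite _)
    rintro _ ⟨u, hu, rfl⟩
    refine h.centralizing_eq hc (OddTwo.conj_mem (h.symm.cls_mem hu) _) fun w hw => ?_
    have h1 := (Commute.conj_iff ((c : G) * g)).2
      (hR1 _ ((mem_normalizer_iff.1 (inv_mem hn) w).1 hw) u hu)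
    rwa [show (c : G) * g * (((c : G) * g)⁻¹ * w * ((c : G) * g)⁻¹⁻¹) * ((c : G) * g)⁻¹ = w by group]
      at h1
  set T := S ⊓ centralizer ({x} : Set G) with hT
  have hWT : ∀ w ∈ W, w ∈ T := fun w hw =>
    mem_inf.2 ⟨h.W_le hw, mem_centralizer_singleton_iff.2 (hc w hw).eq⟩
  have h1 := ncard_modEq_fixed (q := r) (h.Sinv.isPGroup.to_le (inf_le_left : T ≤ S))
    {Q ∈ trs (cls S x) | x ∈ Q} (fun g hg Q hQ => ⟨img_mem_trs hQ.1 g, by
      rw [mem_img]
      have h2 : Commute g x := mem_centralizer_singleton_iff.1 (mem_inf.1 hg).2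
      rw [mul_assoc, ← h2.eq, inv_mul_cancel_left]
      exact hQ.2⟩)
  have e1 : {Q ∈ {Q ∈ trs (cls S x) | x ∈ Q} | ∀ g ∈ T, img g Q = Q} = {cls S x} := by
    refine Set.eq_singleton_iff_unique_mem.2 ⟨⟨⟨⟨1, img_one _⟩, self_mem_cls S x⟩, fun g hg =>
      img_cls_self (mem_inf.1 hg).1 x⟩, fun Q hQ => honly Q hQ.1.1 fun w hw => hQ.2 w (hWT w hw)⟩
  rw [e1, Set.ncard_singleton] at h1
  have h2 := ncard_modEq_fixed (q := r) h.Sinv.isPGroup (trs (cls S x))
    (fun g _ Q hQ => img_mem_trs hQ g)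
  have e2 : {Q ∈ trs (cls S x) | ∀ g ∈ S, img g Q = Q} = {cls S x} := by
    refine Set.eq_singleton_iff_unique_mem.2 ⟨⟨⟨1, img_one _⟩, fun g hg => img_cls_self hg x⟩,
      fun Q hQ => honly Q hQ.1 fun w hw => hQ.2 w (h.W_le hw)⟩
  rw [e2, Set.ncard_singleton, h.trs_count] at h2
  have h3 : (cls P x).ncard * 1 ≡ 1 [MOD r] := ((h1.symm.mul_left _).trans h2)
  rw [mul_one] at h3
  exact (Nat.modEq_iff_dvd' h.one_lt_ncard_cls.le).1 h3.symm

end Cfg

end Cfsg.Agent.RankThreeInvol
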