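import Cfsg.Agent.RankThreeInvol.TwoType.Basic
import Cfsg.Agent.Invol.BaerSuzuki

/-!
# Two product orders: cliques, cocliques and their incidences
-/

set_option autoImplicit false

namespace Cfsg.Agent.RankThreeInvol

open Subgroup

variable {G : Type*} [Group G]

/-- An odd normal subgroup of index two, two possible product orders, and transitivity on each. -/
structure Hyp (K : Subgroup G) (p r : ℕ) : Prop extends OddTwo K where
  pprime : p.Prime
  rprime : r.Prime
  pr : p ≠ r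
  pTwo : p ≠ 2
  rTwo : r ≠ 2
  order : ∀ x ∈ invols G, ∀ y ∈ invols G, x ≠ y → orderOf (x * y) = p ∨ orderOf (x * y) = r
  trans : ∀ x ∈ invols G, ∀ y ∈ invols G, ∀ y' ∈ invols G, x ≠ y → x ≠ y' →
    orderOf (x * y) = orderOf (x * y') → ∃ g, Commute g x ∧ g * y * g⁻¹ = y'

/-- The hypothesis in a minimal configuration. -/
structure Red (K : Subgroup G) (p r : ℕ) : Prop extends Hyp K p r where
  rad : ∀ N : Subgroup G, N.Normal → N ≤ K → Group.IsSolvable N → N = ⊥
  faith : ∀ g ∈ K, (∀ d ∈ invols G, Commute g d) → g = 1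
  hasP : ∀ x ∈ invols G, ∃ y ∈ invols G, orderOf (x * y) = p
  hasR : ∀ x ∈ invols G, ∃ y ∈ invols G, orderOf (x * y) = r
  indSolv : ∀ L : Subgroup G, L ≠ ⊤ → (∀ x ∈ invols G, x ∈ L → ∀ y ∈ invols G, y ∈ L →
      ∀ y' ∈ invols G, y' ∈ L → x ≠ y → x ≠ y' → orderOf (x * y) = orderOf (x * y') →
      ∃ g ∈ L, Commute g x ∧ g * y * g⁻¹ = y') →
    Group.IsSolvable ↥(closure (invols G ∩ (L : Set G)))

/-- A Sylow subgroup normalised by `x`. -/
structure InvSyl (q : ℕ) (x : G) (P : Subgroup G) : Prop where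
  syl : ∃ Q : Sylow q G, (Q : Subgroup G) = P
  normal : x ∈ normalizer (P : Set G)

/-- A minimal configuration with base point and invariant Sylow subgroups. -/
structure Cfg (K : Subgroup G) (p r : ℕ) (x : G) (P S : Subgroup G) : Prop extends Red K p r where
  xD : x ∈ invols G
  Pinv : InvSyl p x P
  Sinv : InvSyl r x S

/-- The members whose product with `x` has order `q`. -/
def nbr (q : ℕ) (x : G) : Set G := {d ∈ invols G | orderOf (x * d) = q}

/-- The family of translates of a set. -/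
def trs (s : Set G) : Set (Set G) := Set.range fun g => img g s

/-- The ratio of the `q`-degree and the clique size less one. -/
noncomputable def sg (q : ℕ) (x : G) (P : Subgroup G) : ℕ :=
  (nbr q x).ncard / ((cls P x).ncard - 1)

theorem orderOf_mul_img (g a b : G) :
    orderOf (g * a * g⁻¹ * (g * b * g⁻¹)) = orderOf (a * b) := by
  rw [conj_mul, Invol.orderOf_conj]

theorem img_nbr (q : ℕ) (g x : G) : img g (nbr q x) = nbr q (g * x * g⁻¹) := by
  ext a
  rw [mem_img]
  constructor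
  · rintro ⟨hd, ho⟩
    have h1 : g * (g⁻¹ * a * g) * g⁻¹ = a := by group
    refine ⟨h1 ▸ OddTwo.conj_mem hd g, ?_⟩
    rw [← h1, orderOf_mul_img, ho]
  · rintro ⟨hd, ho⟩
    refine ⟨by simpa using OddTwo.conj_mem hd g⁻¹, ?_⟩
    rw [← ho, ← orderOf_mul_img g x (g⁻¹ * a * g)]
    group

theorem img_mem_trs {s t : Set G} (ht : t ∈ trs s) (g : G) : img g t ∈ trs s := by
  obtain ⟨h, rfl⟩ := ht
  exact ⟨g * h, (img_img g h s).symm⟩

/-- Summing intersections of translates over a group acting transitively on `Ω`. -/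
theorem incidence [Finite G] (H : Subgroup G) {Ω s t : Set G} (hs : s ⊆ Ω) (ht : t ⊆ Ω)
    (htr : ∀ u ∈ Ω, cls H u = Ω) [Fintype H] :
    (∑ g : H, (img (g : G) s ∩ t).ncard) * Ω.ncard = s.ncard * t.ncard * Nat.card H := by
  classical
  obtain ⟨s', rfl⟩ := (Set.toFinite s).exists_finset_coe
  obtain ⟨t', rfl⟩ := (Set.toFinite t).exists_finset_coe
  have h1 : ∀ g : H, (img (g : G) (↑s' : Set G) ∩ ↑t').ncard =
      ∑ u ∈ s', ∑ v ∈ t', if (g : G) * u * (g : G)⁻¹ = v then 1 else 0 := by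
    intro g
    rw [show (img (g : G) (↑s' : Set G) ∩ ↑t') =
        (fun a => (g : G) * a * (g : G)⁻¹) '' ↑(s'.filter fun u => (g : G) * u * (g : G)⁻¹ ∈ t') by
      ext a
      simp only [img, Set.mem_inter_iff, Set.mem_image, Finset.coe_filter, Set.mem_ofPred_eq,
        Finset.mem_coe]
      constructor
      · rintro ⟨⟨u, hu, rfl⟩, ha⟩
        exact ⟨u, ⟨hu, ha⟩, rfl⟩
      · rintro ⟨u, ⟨hu, ha⟩, rfl⟩
        exact ⟨⟨u, hu, rfl⟩, ha⟩]
    rw [Set.ncard_image_of_injective _ (fun a b (hab : (g : G) * a * (g : G)⁻¹ = _) =>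
      mul_left_cancel (mul_right_cancel hab)), Set.ncard_coe_finset, Finset.card_filter]
    refine Finset.sum_congr rfl fun u _ => ?_
    simp [Finset.sum_ite_eq]
  have h2 : ∀ u ∈ s', ∀ v ∈ t', (∑ g : H, if (g : G) * u * (g : G)⁻¹ = v then 1 else 0) * Ω.ncard =
      Nat.card H := by
    intro u hu v hv
    obtain ⟨a, ha, hav⟩ : v ∈ cls H u := htr u (hs hu) ▸ ht hv
    have h3 : (∑ g : H, if (g : G) * u * (g : G)⁻¹ = v then 1 else 0) =
        Nat.card (H ⊓ centralizer ({u} : Set G) : Subgroup G) := by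
      rw [Finset.sum_boole, Nat.cast_id, ← Set.ncard_coe_finset, ← Nat.card_coe_set_eq]
      refine Nat.card_congr
        { toFun := fun g => ⟨a⁻¹ * (g.1 : G), mem_inf.2 ⟨H.mul_mem (inv_mem ha) g.1.2, ?_⟩⟩
          invFun := fun c => ⟨⟨a * (c : G), H.mul_mem ha (mem_inf.1 c.2).1⟩, ?_⟩
          left_inv := fun g => Subtype.ext (Subtype.ext (by simp))
          right_inv := fun c => Subtype.ext (by simp) }
      · have hg := g.2
        simp only [Finset.coe_filter, Set.mem_ofPred_eq, Finset.mem_univ, true_and] at hg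
        rw [mem_centralizer_singleton_iff]
        refine mul_inv_eq_iff_eq_mul.1 ?_
        calc a⁻¹ * (g.1 : G) * u * (a⁻¹ * (g.1 : G))⁻¹
            = a⁻¹ * ((g.1 : G) * u * (g.1 : G)⁻¹) * a := by group
          _ = u := by rw [hg, ← hav]; group
      · simp only [Finset.coe_filter, Set.mem_ofPred_eq, Finset.mem_univ, true_and]
        have hc := mem_centralizer_singleton_iff.1 (mem_inf.1 c.2).2
        calc a * (c : G) * u * (a * (c : G))⁻¹ = a * ((c : G) * u) * (c : G)⁻¹ * a⁻¹ := by group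
          _ = a * (u * (c : G)) * (c : G)⁻¹ * a⁻¹ := by rw [hc]
          _ = v := by rw [← hav]; group
    rw [h3, ← htr u (hs hu), ncard_cls_mul]
  rw [Finset.sum_congr rfl (fun g _ => h1 g), Finset.sum_comm, Finset.sum_mul,
    Set.ncard_coe_finset, Set.ncard_coe_finset]
  rw [Finset.sum_congr rfl (fun u hu => show
    (∑ g : H, ∑ v ∈ t', if (g : G) * u * (g : G)⁻¹ = v then 1 else 0) * Ω.ncard =
      t'.card * Nat.card H by
    rw [Finset.sum_comm, Finset.sum_mul, Finset.sum_congr rfl (h2 u hu), Finset.sum_const,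
      smul_eq_mul])]
  rw [Finset.sum_const, smul_eq_mul, mul_assoc]

namespace Hyp

variable {K : Subgroup G} {p r : ℕ}

theorem symm (h : Hyp K p r) : Hyp K r p :=
  ⟨h.toOddTwo, h.rprime, h.pprime, h.pr.symm, h.rTwo, h.pTwo,
    fun x hx y hy hne => (h.order x hx y hy hne).symm, h.trans⟩

end Hyp

theorem Red.symm {K : Subgroup G} {p r : ℕ} (h : Red K p r) : Red K r p :=
  ⟨h.toHyp.symm, h.rad, h.faith, h.hasR, h.hasP, h.indSolv⟩

theorem InvSyl.exists_ge [Finite G] {K : Subgroup G} (hK : OddTwo K) {q : ℕ} [Fact q.Prime]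
    (hq : q ≠ 2) {x : G} (hx : x ∈ invols G) {P U : Subgroup G} (hP : InvSyl q x P)
    (hU : IsPGroup q U) (hxU : x ∈ normalizer (U : Set G)) :
    ∃ g, Commute g x ∧ U ≤ P.map (MulAut.conj g).toMonoidHom := by
  obtain ⟨⟨Q, rfl⟩, hxP⟩ := hP
  obtain ⟨Q', hUQ, hxQ⟩ := hK.exists_inv_sylow_ge hq hx hU hxU
  obtain ⟨g, hg, he⟩ := hK.exists_conj_sylow hx hxP hxQ
  exact ⟨g, hg, he ▸ hUQ⟩

theorem InvSyl.isPGroup {q : ℕ} {x : G} {P : Subgroup G} (hP : InvSyl q x P) : IsPGroup q P := by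
  obtain ⟨⟨Q, rfl⟩, -⟩ := hP; exact Q.2

theorem factorization_card_InvSyl [Finite G] {q : ℕ} [hq : Fact q.Prime] {x : G} {P : Subgroup G}
    (hP : InvSyl q x P) : Nat.card P = q ^ (Nat.card G).factorization q := by
  obtain ⟨⟨Q, rfl⟩, -⟩ := hP; exact Q.card_eq_multiplicity

/-- The `q`-part of the number of involutions is the orbit of the invariant Sylow subgroup. -/
theorem OddTwo.factorization_invols [Finite G] {K : Subgroup G} (hK : OddTwo K) {q : ℕ}
    [hq : Fact q.Prime] (hq2 : q ≠ 2) {x : G} (hx : x ∈ invols G) {P : Subgroup G}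
    (hP : InvSyl q x P) :
    (invols G).ncard.factorization q = (cls P x).ncard.factorization q := by
  have hcls : invols G = cls K x := by
    ext y
    exact ⟨fun hy => hK.exists_conj hx hy, fun ⟨g, _, hg⟩ => hg ▸ OddTwo.conj_mem hx g⟩
  set CK := K ⊓ centralizer ({x} : Set G) with hCK
  set CP := P ⊓ centralizer ({x} : Set G) with hCP
  have hPK : P ≤ K := hK.le_of_isPGroup hq2 hP.isPGroup
  obtain ⟨U⟩ : Nonempty (Sylow q CK) := inferInstance
  set U' := (U : Subgroup CK).map CK.subtype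
  have hUx : ∀ u ∈ U', Commute x u := by
    rintro _ ⟨u, -, rfl⟩
    exact (mem_centralizer_singleton_iff.1 (mem_inf.1 u.2).2).symm
  obtain ⟨g, hg, hUg⟩ := hP.exists_ge hK hq2 hx (U.2.map CK.subtype)
    (Invol.mem_normalizer_of_conj_le (by
      rintro _ ⟨u, hu, rfl⟩
      show x * u * x⁻¹ ∈ _
      rwa [(hUx u hu).eq, mul_inv_cancel_right]))
  have hle : U'.map (MulAut.conj g⁻¹).toMonoidHom ≤ CP := by
    rintro _ ⟨u, hu, rfl⟩
    obtain ⟨v, hv, he⟩ := hUg hu
    refine mem_inf.2 ⟨?_, mem_centralizer_singleton_iff.2 ?_⟩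
    · have : g⁻¹ * u * g = v := by rw [← he]; simp [mul_assoc]
      simpa [this] using hv
    · have h1 : Commute x (g⁻¹ * u * g) :=
        ((hg.symm.inv_right).mul_right (hUx u hu)).mul_right hg.symm
      simpa using h1.eq.symm
  have hcU : Nat.card U' = q ^ (Nat.card CK).factorization q := by
    rw [card_map_of_injective CK.subtype_injective, U.card_eq_multiplicity]
  have hdvd : q ^ (Nat.card CK).factorization q ∣ Nat.card CP := by
    have hinj : Function.Injective ⇑(MulAut.conj g⁻¹).toMonoidHom := (MulAut.conj g⁻¹).injective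
    rw [← hcU, Nat.card_congr (U'.equivMapOfInjective _ hinj).toEquiv]
    exact card_dvd_of_le hle
  have h1 : (Nat.card CK).factorization q ≤ (Nat.card CP).factorization q :=
    (hq.out.pow_dvd_iff_le_factorization Nat.card_pos.ne').1 hdvd
  have h2 : (Nat.card CP).factorization q ≤ (Nat.card CK).factorization q :=
    (Nat.factorization_le_iff_dvd Nat.card_pos.ne' Nat.card_pos.ne').2
      (card_dvd_of_le (inf_le_inf_right _ hPK)) q
  have hne : ∀ H : Subgroup G, (cls H x).ncard ≠ 0 := fun H =>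
    (Set.ncard_pos (Set.toFinite _)).2 ⟨x, self_mem_cls H x⟩ |>.ne'
  have e1 : (Nat.card CK).factorization q + (invols G).ncard.factorization q =
      (Nat.card K).factorization q := by
    rw [hcls, ← Finsupp.add_apply, ← Nat.factorization_mul Nat.card_pos.ne' (hne K), ncard_cls_mul]
  have e2 : (Nat.card CP).factorization q + (cls P x).ncard.factorization q =
      (Nat.card P).factorization q := by
    rw [← Finsupp.add_apply, ← Nat.factorization_mul Nat.card_pos.ne' (hne P), ncard_cls_mul]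
  have e3 : (Nat.card P).factorization q = (Nat.card K).factorization q := by
    rw [factorization_card_InvSyl hP, Nat.Prime.factorization_pow hq.out, Finsupp.single_eq_same,
      ← K.card_mul_index, hK.index, Nat.factorization_mul Nat.card_pos.ne' two_ne_zero,
      Finsupp.add_apply, Nat.prime_two.factorization, Finsupp.single_eq_of_ne hq2, add_zero]
  omega

namespace Cfg

variable {K : Subgroup G} {p r : ℕ} {x : G} {P S : Subgroup G}

theorem symm (h : Cfg K p r x P S) : Cfg K r p x S P :=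
  ⟨h.toRed.symm, h.xD, h.Sinv, h.Pinv⟩

theorem pFact (h : Cfg K p r x P S) : Fact p.Prime := ⟨h.pprime⟩

theorem not_both (h : Cfg K p r x P S) {a b : G} (h1 : orderOf (a * b) = p) :
    orderOf (a * b) ≠ r := fun h2 => h.pr (h1.symm.trans h2)

theorem ne_of_p (h : Cfg K p r x P S) {a b : G} (ha : a ∈ invols G) (h1 : orderOf (a * b) = p) :
    a ≠ b := by
  rintro rfl
  rw [Invol.mul_self_eq_one ha, orderOf_one] at h1
  exact h.pprime.ne_one h1.symm

theorem cls_mem (h : Cfg K p r x P S) {u : G} (hu : u ∈ cls P x) : u ∈ invols G := by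
  obtain ⟨g, -, rfl⟩ := hu; exact OddTwo.conj_mem h.xD g

theorem cls_subset (h : Cfg K p r x P S) : cls P x ⊆ invols G := fun _ hu => h.cls_mem hu

theorem mul_mem_P (h : Cfg K p r x P S) {u v : G} (hu : u ∈ cls P x) (hv : v ∈ cls P x) :
    u * v ∈ P := by
  have key : ∀ g ∈ P, x * (g * x * g⁻¹) ∈ P := fun g hg => by
    rw [show x * (g * x * g⁻¹) = x * g * x⁻¹ * g⁻¹ by
      rw [Invol.inv_eq_self h.xD]; simp only [mul_assoc]]
    exact P.mul_mem ((mem_normalizer_iff.1 h.Pinv.normal g).1 hg) (P.inv_mem hg)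
  obtain ⟨a, ha, rfl⟩ := hu
  obtain ⟨b, hb, rfl⟩ := hv
  have := P.mul_mem (P.inv_mem (key a ha)) (key b hb)
  rwa [mul_inv_rev, Invol.inv_eq_self (OddTwo.conj_mem h.xD a), Invol.inv_eq_self h.xD, mul_assoc,
    Invol.mul_mul_cancel_self h.xD] at this

variable [Finite G]

theorem clique (h : Cfg K p r x P S) {u v : G} (hu : u ∈ cls P x) (hv : v ∈ cls P x)
    (hne : u ≠ v) : orderOf (u * v) = p := by
  have := h.pFact
  rcases h.order u (h.cls_mem hu) v (h.cls_mem hv) hne with ho | ho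
  · exact ho
  obtain ⟨k, hk⟩ := IsPGroup.iff_orderOf.1 h.Pinv.isPGroup ⟨_, h.mul_mem_P hu hv⟩
  rw [orderOf_mk, ho] at hk
  exact absurd ((Nat.prime_dvd_prime_iff_eq h.rprime h.pprime).1
    (h.rprime.dvd_of_dvd_pow (dvd_of_eq hk))) h.pr.symm

theorem trs_subset (h : Cfg K p r x P S) {C : Set G} (hC : C ∈ trs (cls P x)) : C ⊆ invols G := by
  obtain ⟨g, rfl⟩ := hC
  rintro _ ⟨u, hu, rfl⟩
  exact OddTwo.conj_mem (h.cls_mem hu) g

theorem trs_clique (h : Cfg K p r x P S) {C : Set G} (hC : C ∈ trs (cls P x)) {u v : G}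
    (hu : u ∈ C) (hv : v ∈ C) (hne : u ≠ v) : orderOf (u * v) = p := by
  obtain ⟨g, rfl⟩ := hC
  obtain ⟨a, ha, rfl⟩ := hu
  obtain ⟨b, hb, rfl⟩ := hv
  rw [orderOf_mul_img]
  exact h.clique ha hb fun he => hne (he ▸ rfl)

omit [Finite G] in
theorem trs_ncard {C : Set G} (hC : C ∈ trs (cls P x)) : C.ncard = (cls P x).ncard := by
  obtain ⟨g, rfl⟩ := hC; exact ncard_img g _

theorem edge_trs (h : Cfg K p r x P S) {u v : G} (hu : u ∈ invols G) (hv : v ∈ invols G)
    (ho : orderOf (u * v) = p) : ∃ C ∈ trs (cls P x), u ∈ C ∧ v ∈ C := by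
  have := h.pFact
  obtain ⟨k, -, hk⟩ := h.exists_conj hu h.xD
  set w := k * v * k⁻¹ with hw
  have hwD : w ∈ invols G := OddTwo.conj_mem hv k
  have hwo : orderOf (x * w) = p := by rw [← hk, hw, orderOf_mul_img]; exact ho
  obtain ⟨g, hg, hle⟩ := h.Pinv.exists_ge h.toOddTwo h.pTwo h.xD
    (IsPGroup.of_card (n := 1) (G := zpowers (x * w)) (by rw [Nat.card_zpowers, hwo, pow_one]))
    (U := zpowers (x * w)) (by
      rw [mem_normalizer_iff_map, MonoidHom.map_zpowers,
        show (MulAut.conj x).toMonoidHom (x * w) = (x * w)⁻¹ by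
          show x * (x * w) * x⁻¹ = _
          rw [conj_eq h.xD, conj_prod h.xD hwD], zpowers_inv])
  set m := (x * w) ^ ((orderOf (x * w) + 1) / 2) with hm
  have hxm : x * m * x = m⁻¹ := conj_prod_pow h.xD hwD _
  have hmw : x * m * x * (x * m)⁻¹ = w := h.mid_conj' h.xD hwD
  obtain ⟨q, hq, hqe⟩ := hle (pow_mem (mem_zpowers (x * w)) ((orderOf (x * w) + 1) / 2))
  have hqe' : g * q * g⁻¹ = m := hqe
  have hgx : g * x * g⁻¹ = x := by rw [hg.eq, mul_inv_cancel_right]
  have hwmem : w ∈ img g (cls P x) := by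
    refine ⟨q⁻¹ * x * q⁻¹⁻¹, ⟨q⁻¹, P.inv_mem hq, rfl⟩, ?_⟩
    show g * (q⁻¹ * x * q⁻¹⁻¹) * g⁻¹ = w
    calc g * (q⁻¹ * x * q⁻¹⁻¹) * g⁻¹
        = (g * q * g⁻¹)⁻¹ * (g * x * g⁻¹) * (g * q * g⁻¹) := by group
      _ = m⁻¹ * x * m := by rw [hqe', hgx]
      _ = x * m * x * (x * m)⁻¹ := by
          rw [mul_inv_rev, Invol.inv_eq_self h.xD, hxm]
          have : x * m = m⁻¹ * x := by
            rw [← hxm, mul_assoc _ x x, Invol.mul_self_eq_one h.xD, mul_one]
          rw [mul_assoc m⁻¹ x m, this]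
      _ = w := hmw
  refine ⟨img k⁻¹ (img g (cls P x)), img_mem_trs ⟨g, rfl⟩ k⁻¹, ?_, ?_⟩
  · rw [mem_img, inv_inv, hk]
    exact ⟨x, self_mem_cls P x, hgx⟩
  · rw [mem_img, inv_inv, ← hw]
    exact hwmem

theorem ncard_cls_pow (h : Cfg K p r x P S) : ∃ k, (cls P x).ncard = p ^ k := by
  have := h.pFact
  exact exists_pow_ncard_cls h.Pinv.isPGroup x

theorem ncard_invols (h : Cfg K p r x P S) :
    (invols G).ncard = (cls P x).ncard * (cls S x).ncard := by
  obtain ⟨i, hi⟩ := h.ncard_cls_pow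
  obtain ⟨j, hj⟩ := h.symm.ncard_cls_pow
  have hn : (invols G).ncard ≠ 0 := (Set.ncard_pos (Set.toFinite _)).2 ⟨x, h.xD⟩ |>.ne'
  have hA : (cls P x).ncard ≠ 0 := (Set.ncard_pos (Set.toFinite _)).2 ⟨x, self_mem_cls P x⟩ |>.ne'
  have hB : (cls S x).ncard ≠ 0 := (Set.ncard_pos (Set.toFinite _)).2 ⟨x, self_mem_cls S x⟩ |>.ne'
  refine Nat.eq_of_factorization_eq hn (Nat.mul_ne_zero hA hB) fun q => ?_
  by_cases hq : q.Prime
  swap
  · rw [Nat.factorization_eq_zero_of_not_prime _ hq, Nat.factorization_eq_zero_of_not_prime _ hq]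
  have := Fact.mk hq
  rw [Nat.factorization_mul hA hB, Finsupp.add_apply, hi, hj, h.pprime.factorization_pow,
    h.rprime.factorization_pow]
  by_cases hqp : q = p
  · subst hqp
    rw [h.toOddTwo.factorization_invols h.pTwo h.xD h.Pinv, hi, h.pprime.factorization_pow,
      Finsupp.single_eq_of_ne (a := r) (by exact h.pr), add_zero]
  by_cases hqr : q = r
  · subst hqr
    rw [h.toOddTwo.factorization_invols h.rTwo h.xD h.Sinv, hj, h.rprime.factorization_pow,
      Finsupp.single_eq_of_ne (a := p) (by exact h.pr.symm), zero_add]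
  rw [Finsupp.single_eq_of_ne hqp, Finsupp.single_eq_of_ne hqr, add_zero]
  have hodd : Odd (invols G).ncard := by
    have hcls : invols G = cls K x := by
      ext y
      exact ⟨fun hy => h.exists_conj h.xD hy, fun ⟨g, _, hg⟩ => hg ▸ OddTwo.conj_mem h.xD g⟩
    exact h.odd.of_dvd_nat (hcls ▸ ncard_cls_dvd K x)
  by_cases hq2 : q = 2
  · subst hq2
    exact Nat.factorization_eq_zero_of_not_dvd
      fun hd => Nat.not_even_iff_odd.2 hodd (even_iff_two_dvd.2 hd)
  obtain ⟨Q, hQ⟩ := h.toOddTwo.exists_inv_sylow (q := q) hq2 h.xD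
  have hQI : InvSyl q x (Q : Subgroup G) := ⟨⟨Q, rfl⟩, hQ⟩
  rw [h.toOddTwo.factorization_invols hq2 h.xD hQI]
  have hone : cls (Q : Subgroup G) x = {x} := by
    refine Set.eq_singleton_iff_unique_mem.2 ⟨self_mem_cls _ x, ?_⟩
    rintro _ ⟨g, hg, rfl⟩
    by_contra hne
    have hmem : x * (g * x * g⁻¹) ∈ (Q : Subgroup G) := by
      rw [show x * (g * x * g⁻¹) = x * g * x⁻¹ * g⁻¹ by
        rw [Invol.inv_eq_self h.xD]; simp only [mul_assoc]]
      exact mul_mem ((mem_normalizer_iff.1 hQ g).1 hg) (inv_mem hg)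
    obtain ⟨k, hk⟩ := IsPGroup.iff_orderOf.1 Q.2 ⟨_, hmem⟩
    rw [orderOf_mk] at hk
    rcases h.order x h.xD _ (OddTwo.conj_mem h.xD g) (fun he => hne he.symm) with ho | ho <;>
      rw [ho] at hk
    · exact hqp ((Nat.prime_dvd_prime_iff_eq h.pprime hq).1
        (h.pprime.dvd_of_dvd_pow (dvd_of_eq hk))).symm
    · exact hqr ((Nat.prime_dvd_prime_iff_eq h.rprime hq).1
        (h.rprime.dvd_of_dvd_pow (dvd_of_eq hk))).symm
  rw [hone, Set.ncard_singleton, Nat.factorization_one, Finsupp.zero_apply]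

theorem one_lt_ncard_cls (h : Cfg K p r x P S) : 1 < (cls P x).ncard := by
  obtain ⟨y, hy, ho⟩ := h.hasP x h.xD
  obtain ⟨C, hC, hxC, hyC⟩ := h.edge_trs h.xD hy ho
  rw [← trs_ncard hC]
  exact (Set.one_lt_ncard (Set.toFinite _)).2 ⟨x, hxC, y, hyC, h.ne_of_p h.xD ho⟩

theorem trs_inter_le (h : Cfg K p r x P S) {C J : Set G} (hC : C ∈ trs (cls P x))
    (hJ : ∀ a ∈ J, ∀ b ∈ J, a ≠ b → orderOf (a * b) = r) : (C ∩ J).ncard ≤ 1 := by
  refine (Set.ncard_le_one (Set.toFinite _)).2 fun a ha b hb => ?_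
  by_contra hne
  exact h.not_both (h.trs_clique hC ha.1 hb.1 hne) (hJ a ha.2 b hb.2 hne)

omit [Finite G] in
theorem cls_top (h : Cfg K p r x P S) {u : G} (hu : u ∈ invols G) : cls ⊤ u = invols G := by
  ext y
  refine ⟨fun ⟨g, _, hg⟩ => hg ▸ OddTwo.conj_mem hu g, fun hy => ?_⟩
  exact ⟨_, mem_top _, h.mid_conj' hu hy⟩

theorem sum_inter (h : Cfg K p r x P S) {J : Set G} (hJ : J ⊆ invols G)
    [Fintype (⊤ : Subgroup G)] :
    (∑ g : (⊤ : Subgroup G), (img (g : G) (cls P x) ∩ J).ncard) * (cls S x).ncard =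
      J.ncard * Nat.card (⊤ : Subgroup G) := by
  have := incidence ⊤ h.cls_subset hJ fun u hu => h.cls_top hu
  rw [h.ncard_invols, ← mul_assoc, mul_comm (∑ g : (⊤ : Subgroup G), _) (cls P x).ncard, mul_assoc,
    mul_assoc] at this
  exact Nat.eq_of_mul_eq_mul_left (by have := h.one_lt_ncard_cls; omega) this

/-- A set with pairwise products of order `r` has at most `|cls S x|` members. -/
theorem coclique_le (h : Cfg K p r x P S) {J : Set G} (hJD : J ⊆ invols G)
    (hJ : ∀ a ∈ J, ∀ b ∈ J, a ≠ b → orderOf (a * b) = r) : J.ncard ≤ (cls S x).ncard := by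
  classical
  have := Fintype.ofFinite (⊤ : Subgroup G)
  refine Nat.le_of_mul_le_mul_right ?_ (Nat.card_pos (α := (⊤ : Subgroup G)))
  rw [← h.sum_inter hJD, mul_comm (cls S x).ncard]
  refine Nat.mul_le_mul_right _ ((Finset.sum_le_card_nsmul (Finset.univ : Finset (⊤ : Subgroup G))
    (fun g => (img (g : G) (cls P x) ∩ J).ncard) 1 fun g _ => h.trs_inter_le ⟨(g : G), rfl⟩ hJ).trans ?_)
  rw [smul_eq_mul, mul_one, Finset.card_univ, Nat.card_eq_fintype_card]

/-- Each clique translate meets each coclique translate in exactly one member. -/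
theorem inter_eq_one (h : Cfg K p r x P S) {C R : Set G} (hC : C ∈ trs (cls P x))
    (hR : R ∈ trs (cls S x)) : (C ∩ R).ncard = 1 := by
  classical
  have := Fintype.ofFinite (⊤ : Subgroup G)
  have hJ : ∀ a ∈ R, ∀ b ∈ R, a ≠ b → orderOf (a * b) = r :=
    fun a ha b hb => h.symm.trs_clique hR ha hb
  have hle := h.trs_inter_le hC hJ
  obtain ⟨g, rfl⟩ := hC
  have hsum := h.sum_inter (h.symm.trs_subset hR)
  rw [trs_ncard hR, mul_comm, Nat.card_eq_fintype_card] at hsum
  have hs : ∑ g : (⊤ : Subgroup G), (img (g : G) (cls P x) ∩ R).ncard =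
      Fintype.card (⊤ : Subgroup G) :=
    Nat.eq_of_mul_eq_mul_left (by have := h.symm.one_lt_ncard_cls; omega) hsum
  by_contra hne
  have hlt : ∑ g : (⊤ : Subgroup G), (img (g : G) (cls P x) ∩ R).ncard <
      ∑ _g : (⊤ : Subgroup G), 1 := by
    refine Finset.sum_lt_sum (fun a _ => h.trs_inter_le ⟨a, rfl⟩ hJ) ⟨⟨g, mem_top g⟩,
      Finset.mem_univ _, ?_⟩
    exact lt_of_le_of_ne hle hne
  rw [hs, Finset.sum_const, Finset.card_univ, smul_eq_mul, mul_one] at hlt
  exact lt_irrefl _ hlt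

omit [Finite G] in
theorem nbr_ncard (h : Cfg K p r x P S) (q : ℕ) {v : G} (hv : v ∈ invols G) :
    (nbr q v).ncard = (nbr q x).ncard := by
  obtain ⟨g, -, rfl⟩ := h.exists_conj h.xD hv
  rw [← img_nbr, ncard_img]

omit [Finite G] in
theorem through_ncard (h : Cfg K p r x P S) {v : G} (hv : v ∈ invols G) (s : Set G) :
    {C ∈ trs s | v ∈ C}.ncard = {C ∈ trs s | x ∈ C}.ncard := by
  obtain ⟨g, -, rfl⟩ := h.exists_conj h.xD hv
  refine ((Set.ncard_image_of_injective (f := img g) {C ∈ trs s | x ∈ C} ?_).symm.trans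
    (congrArg Set.ncard ?_)).symm
  · intro a b hab
    have := congrArg (img g⁻¹) hab
    rwa [img_img, img_img, inv_mul_cancel, img_one, img_one] at this
  · ext C
    constructor
    · rintro ⟨C', ⟨hC', hx'⟩, rfl⟩
      exact ⟨img_mem_trs hC' g, ⟨x, hx', rfl⟩⟩
    · rintro ⟨hC, hmem⟩
      refine ⟨img g⁻¹ C, ⟨img_mem_trs hC g⁻¹, ?_⟩, ?_⟩
      · rwa [mem_img, inv_inv]
      · rw [img_img, mul_inv_cancel, img_one]

/-- The number of translates through both ends of a `p`-edge is constant. -/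
theorem through_pair (h : Cfg K p r x P S) {v u y : G} (hv : v ∈ invols G) (hu : u ∈ nbr p v)
    (hy : y ∈ nbr p v) : {C ∈ trs (cls P x) | v ∈ C ∧ u ∈ C}.ncard =
      {C ∈ trs (cls P x) | v ∈ C ∧ y ∈ C}.ncard := by
  obtain ⟨g, hgv, hg⟩ := h.trans v hv u hu.1 y hy.1 (h.ne_of_p hv hu.2) (h.ne_of_p hv hy.2)
    (hu.2.trans hy.2.symm)
  have hgv' : g * v * g⁻¹ = v := by rw [hgv.eq, mul_inv_cancel_right]
  refine (Set.ncard_image_of_injective (f := img g) {C ∈ trs (cls P x) | v ∈ C ∧ u ∈ C} ?_).symm.trans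
    (congrArg Set.ncard ?_)
  · intro a b hab
    have := congrArg (img g⁻¹) hab
    rwa [img_img, img_img, inv_mul_cancel, img_one, img_one] at this
  · ext C
    constructor
    · rintro ⟨C', ⟨hC', hv', hu'⟩, rfl⟩
      exact ⟨img_mem_trs hC' g, ⟨v, hv', hgv'⟩, ⟨u, hu', hg⟩⟩
    · rintro ⟨hC, hvC, hyC⟩
      refine ⟨img g⁻¹ C, ⟨img_mem_trs hC g⁻¹, ?_, ?_⟩, ?_⟩
      · rw [mem_img, inv_inv, hgv']; exact hvC
      · rw [mem_img, inv_inv, hg]; exact hyC
      · rw [img_img, mul_inv_cancel, img_one]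

/-- A point outside a coclique translate has exactly `sg p x P` `p`-neighbours in it. -/
theorem nnb (h : Cfg K p r x P S) {v : G} (hv : v ∈ invols G) {R : Set G}
    (hR : R ∈ trs (cls S x)) (hvR : v ∉ R) :
    (nbr p v ∩ R).ncard = sg p x P ∧
      (nbr p x).ncard = sg p x P * ((cls P x).ncard - 1) := by
  classical
  obtain ⟨T, hT⟩ := (Set.toFinite {C ∈ trs (cls P x) | v ∈ C}).exists_finset_coe
  obtain ⟨Y, hY⟩ := (Set.toFinite (nbr p v)).exists_finset_coe
  obtain ⟨u₀, hu₀, ho⟩ := h.hasP v hv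
  have hTm : ∀ C, C ∈ T ↔ C ∈ trs (cls P x) ∧ v ∈ C := fun C => by
    rw [← Finset.mem_coe, hT]; rfl
  set m := {C ∈ trs (cls P x) | v ∈ C ∧ u₀ ∈ C}.ncard with hm
  have hmpos : 0 < m := by
    obtain ⟨C, hC, h1, h2⟩ := h.edge_trs hv hu₀ ho
    exact (Set.ncard_pos (Set.toFinite _)).2 ⟨C, hC, h1, h2⟩
  have hcol : ∀ u ∈ Y, (T.filter fun C => u ∈ C).card = m := by
    intro u hu
    rw [hm, ← h.through_pair hv (show u ∈ nbr p v by rw [← hY]; exact hu) ⟨hu₀, ho⟩,
      ← Set.ncard_coe_finset]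
    congr 1
    ext C
    simp only [Finset.coe_filter, Set.mem_ofPred_eq, hTm, and_assoc]
  have hone : ∀ C ∈ T, (Y.filter fun u => u ∈ C ∧ u ∈ R).card = 1 := by
    intro C hC
    obtain ⟨hC', hvC⟩ := (hTm C).1 hC
    rw [← h.inter_eq_one hC' hR, ← Set.ncard_coe_finset]
    congr 1
    ext u
    simp only [Finset.coe_filter, Set.mem_ofPred_eq, Set.mem_inter_iff, ← Finset.mem_coe, hY]
    refine ⟨fun hu => hu.2, fun hu => ⟨⟨h.trs_subset hC' hu.1, ?_⟩, hu⟩⟩
    exact h.trs_clique hC' hvC hu.1 fun he => hvR (he ▸ hu.2)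
  have hall : ∀ C ∈ T, (Y.filter fun u => u ∈ C).card = (cls P x).ncard - 1 := by
    intro C hC
    obtain ⟨hC', hvC⟩ := (hTm C).1 hC
    rw [← trs_ncard hC', ← Set.ncard_sdiff_singleton_of_mem hvC, ← Set.ncard_coe_finset]
    congr 1
    ext u
    simp only [Finset.coe_filter, Set.mem_ofPred_eq, Set.mem_sdiff, Set.mem_singleton_iff,
      ← Finset.mem_coe, hY]
    refine ⟨fun hu => ⟨hu.2, fun he => h.ne_of_p hv (hu.1).2 he.symm⟩,
      fun hu => ⟨⟨h.trs_subset hC' hu.1, ?_⟩, hu.1⟩⟩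
    exact h.trs_clique hC' hvC hu.1 fun he => hu.2 he.symm
  have e1 : T.card * ((cls P x).ncard - 1) = Y.card * m := by
    rw [← smul_eq_mul, ← smul_eq_mul, ← Finset.sum_const, ← Finset.sum_const,
      ← Finset.sum_congr rfl hall, ← Finset.sum_congr rfl hcol]
    exact Finset.sum_card_bipartiteAbove_eq_sum_card_bipartiteBelow fun (C : Set G) (u : G) => u ∈ C
  have e2 : T.card = (Y.filter fun u => u ∈ R).card * m := by
    rw [← smul_eq_mul, ← Finset.sum_const, Finset.card_eq_sum_ones T,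
      ← Finset.sum_congr rfl hone,
      ← Finset.sum_congr rfl (fun u hu => hcol u (Finset.mem_filter.1 hu).1)]
    have := Finset.sum_card_bipartiteAbove_eq_sum_card_bipartiteBelow
      (s := T) (t := Y.filter fun u => u ∈ R) fun (C : Set G) (u : G) => u ∈ C
    simp only [Finset.bipartiteAbove, Finset.bipartiteBelow] at this
    rw [← this]
    refine Finset.sum_congr rfl fun C _ => ?_
    rw [Finset.filter_filter]
    simp only [and_comm]
  have hYR : (nbr p v ∩ R).ncard = (Y.filter fun u => u ∈ R).card := by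
    rw [← Set.ncard_coe_finset, Finset.coe_filter]
    congr 1
    ext u
    simp only [Set.mem_inter_iff, Set.mem_ofPred_eq, ← Finset.mem_coe, hY]
  have hk : (nbr p x).ncard = Y.card := by
    rw [← h.nbr_ncard p hv, ← hY, Set.ncard_coe_finset]
  have e3 : Y.card = (nbr p v ∩ R).ncard * ((cls P x).ncard - 1) := by
    refine Nat.eq_of_mul_eq_mul_right hmpos ?_
    rw [← e1, e2, hYR]
    ring
  have hsg : sg p x P = (nbr p v ∩ R).ncard := by
    rw [sg, hk, e3, Nat.mul_div_cancel _ (by have := h.one_lt_ncard_cls; omega)]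
  exact ⟨hsg.symm, by rw [hsg, hk, e3]⟩

theorem nbr_eq_mul (h : Cfg K p r x P S) :
    (nbr p x).ncard = sg p x P * ((cls P x).ncard - 1) := by
  obtain ⟨y, hy, ho⟩ := h.hasP x h.xD
  have hyR : y ∉ cls S x := fun hyR =>
    h.not_both ho (h.symm.clique (self_mem_cls S x) hyR (h.ne_of_p h.xD ho))
  exact (h.nnb hy ⟨1, img_one _⟩ hyR).2

theorem ncard_split (h : Cfg K p r x P S) :
    (invols G).ncard = 1 + (nbr p x).ncard + (nbr r x).ncard := by
  have hu : invols G = {x} ∪ (nbr p x ∪ nbr r x) := by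
    ext d
    constructor
    · intro hd
      rcases eq_or_ne x d with rfl | hne
      · exact Or.inl rfl
      · rcases h.order x h.xD d hd hne with ho | ho
        · exact Or.inr (Or.inl ⟨hd, ho⟩)
        · exact Or.inr (Or.inr ⟨hd, ho⟩)
    · rintro (rfl | hd | hd)
      · exact h.xD
      · exact hd.1
      · exact hd.1
  conv_lhs => rw [hu]
  rw [Set.ncard_union_eq ?_ (Set.toFinite _) (Set.toFinite _),
    Set.ncard_union_eq ?_ (Set.toFinite _) (Set.toFinite _), Set.ncard_singleton]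
  · ring
  · exact Set.disjoint_left.2 fun d hd hd' => h.not_both hd.2 hd'.2
  · refine Set.disjoint_left.2 ?_
    rintro d rfl (hd | hd)
    · exact h.ne_of_p h.xD hd.2 rfl
    · exact h.symm.ne_of_p h.xD hd.2 rfl

/-- The basic identity. -/
theorem identity (h : Cfg K p r x P S) :
    (cls P x).ncard * (cls S x).ncard =
      1 + sg p x P * ((cls P x).ncard - 1) + sg r x S * ((cls S x).ncard - 1) := by
  rw [← h.ncard_invols, h.ncard_split, h.nbr_eq_mul, h.symm.nbr_eq_mul]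

theorem nbr_two_mod_four (h : Cfg K p r x P S) : (nbr p x).ncard % 4 = 2 := by
  obtain ⟨y, hy, ho⟩ := h.hasP x h.xD
  set C := centralizer ({x} : Set G) with hC
  have hcls : nbr p x = cls C y := by
    ext d
    constructor
    · intro hd
      obtain ⟨g, hg, hgd⟩ := h.trans x h.xD y hy d hd.1 (h.ne_of_p h.xD ho)
        (h.ne_of_p h.xD hd.2) (ho.trans hd.2.symm)
      exact ⟨g, mem_centralizer_singleton_iff.2 hg.eq, hgd⟩
    · rintro ⟨g, hg, rfl⟩
      refine ⟨OddTwo.conj_mem hy g, ?_⟩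
      have hgx : g * x * g⁻¹ = x := by rw [mem_centralizer_singleton_iff.1 hg, mul_inv_cancel_right]
      conv_lhs => rw [← hgx]
      rw [orderOf_mul_img, ho]
  set T := C ⊓ centralizer ({y} : Set G) with hT
  have hTK : T ≤ K := by
    intro g hg
    by_contra hgK
    obtain ⟨n, hn⟩ := h.exists_pow_invol hgK
    have h1 : Commute (g ^ n) x := Commute.pow_left (mem_centralizer_singleton_iff.1 hg.1) n
    have h2 : Commute (g ^ n) y := Commute.pow_left (mem_centralizer_singleton_iff.1 hg.2) n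
    have := (h.eq_of_commute hn h.xD h1).symm.trans (h.eq_of_commute hn hy h2)
    exact h.ne_of_p h.xD ho this
  have h2 : 2 ∣ Nat.card C := by
    have hm := orderOf_dvd_natCard (⟨x, mem_centralizer_singleton_iff.2 rfl⟩ : C)
    rwa [orderOf_mk, show orderOf x = 2 from h.xD] at hm
  have h4 : ¬ 4 ∣ Nat.card C := by
    intro h4
    have hd := h4.trans (card_subgroup_dvd_card C)
    rw [← K.card_mul_index, h.index] at hd
    obtain ⟨m, hm⟩ := h.odd
    omega
  have hoddT : Odd (Nat.card T) := h.odd.of_dvd_nat (card_dvd_of_le hTK)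
  have hmul := ncard_cls_mul C y
  rw [hcls]
  obtain ⟨a, ha⟩ := hoddT
  obtain ⟨b, hb⟩ := h2
  rw [← hT] at hmul
  have hbo : b % 2 = 1 := by omega
  have he : (cls C y).ncard % 2 = 0 := by
    by_contra h0
    have : (Nat.card T * (cls C y).ncard) % 2 = 1 := by
      rw [Nat.mul_mod]; simp [ha, Nat.add_mod, (by omega : (cls C y).ncard % 2 = 1)]
    omega
  by_contra h0
  obtain ⟨c, hc⟩ : 4 ∣ (cls C y).ncard := by omega
  rw [hc, hb] at hmul
  have h5 : Nat.card T * (4 * c) = 4 * (Nat.card T * c) := by ring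
  omega

theorem sg_le (h : Cfg K p r x P S) : sg p x P ≤ (cls S x).ncard := by
  obtain ⟨y, hy, ho⟩ := h.hasP x h.xD
  have hyR : y ∉ cls S x := fun hyR =>
    h.not_both ho (h.symm.clique (self_mem_cls S x) hyR (h.ne_of_p h.xD ho))
  rw [← (h.nnb hy ⟨1, img_one _⟩ hyR).1]
  exact Set.ncard_le_ncard Set.inter_subset_right (Set.toFinite _)

theorem odd_ncard_cls (h : Cfg K p r x P S) : Odd (cls P x).ncard := by
  obtain ⟨k, hk⟩ := h.ncard_cls_pow
  rw [hk]; exact (h.pprime.odd_of_ne_two h.pTwo).pow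

theorem sg_odd (h : Cfg K p r x P S) : Odd (sg p x P) ∧ (cls P x).ncard % 4 = 3 := by
  have h1 := h.nbr_two_mod_four
  rw [h.nbr_eq_mul] at h1
  obtain ⟨a, ha⟩ := h.odd_ncard_cls
  rw [ha, show 2 * a + 1 - 1 = 2 * a by omega] at h1
  rw [show sg p x P * (2 * a) = 2 * (sg p x P * a) by ring] at h1
  have hodd : Odd (sg p x P * a) := Nat.odd_iff.2 (by omega)
  refine ⟨(Nat.odd_mul.1 hodd).1, ?_⟩
  have := Nat.odd_iff.1 (Nat.odd_mul.1 hodd).2
  omega

end Cfg

end Cfsg.Agent.RankThreeInvol
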