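import Cfsg.Agent.RankThreeInvol.TwoType.Count
import Cfsg.Agent.S1618

/-!
# Neither product order gives an equivalence relation
-/

set_option autoImplicit false

namespace Cfsg.Agent.RankThreeInvol

open Subgroup

variable {G : Type*} [Group G] [Finite G]

/-- The join of two solvable normal subgroups is solvable. -/
theorem isSolvable_sup_normal (A B : Subgroup G) [A.Normal] [Group.IsSolvable A]
    [Group.IsSolvable B] : Group.IsSolvable (A ⊔ B : Subgroup G) := by
  have h1 : Group.IsSolvable (A.subgroupOf (A ⊔ B)) :=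
    Group.isSolvable_of_isSolvable_injective
      (f := (subgroupOfEquivOfLe (le_sup_left : A ≤ A ⊔ B)).toMonoidHom) (MulEquiv.injective _)
  have h2 : Group.IsSolvable ((A ⊔ B : Subgroup G) ⧸ A.subgroupOf (A ⊔ B)) := by
    refine Group.isSolvable_of_surjective
      (f := (QuotientGroup.mk' _).comp (inclusion (le_sup_right : B ≤ A ⊔ B))) fun q => ?_
    obtain ⟨⟨y, hy⟩, rfl⟩ := QuotientGroup.mk'_surjective _ q
    obtain ⟨a, ha, b, hb, rfl⟩ := mem_sup_of_normal_left.mp hy
    refine ⟨⟨b, hb⟩, QuotientGroup.eq.2 ?_⟩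
    show b⁻¹ * (a * b) ∈ A
    simpa [mul_assoc] using Subgroup.Normal.conj_mem inferInstance a ha b⁻¹
  exact Group.isSolvable_of_ker_le_range (A.subgroupOf (A ⊔ B)).subtype
    (QuotientGroup.mk' (A.subgroupOf (A ⊔ B))) (by rw [QuotientGroup.ker_mk', range_subtype])

/-- A solvable subgroup normal in a normal subgroup lies in a solvable normal subgroup. -/
theorem exists_solvable_normal_ge {Q N : Subgroup G} [Q.Normal] (hNQ : N ≤ Q)
    (hN : Q ≤ normalizer (N : Set G)) (hs : Group.IsSolvable N) :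
    ∃ M : Subgroup G, M.Normal ∧ M ≤ Q ∧ Group.IsSolvable M ∧ N ≤ M := by
  obtain ⟨R, ⟨hRn, hRs⟩, hmax⟩ := (Set.toFinite {R : Subgroup Q | R.Normal ∧ Group.IsSolvable R}).exists_maximalFor
    (fun R : Subgroup Q => R) _ ⟨⊥, inferInstance, inferInstance⟩
  have habs : ∀ R' : Subgroup Q, R'.Normal → Group.IsSolvable R' → R' ≤ R := fun R' hn hsv =>
    le_sup_right.trans (hmax ⟨sup_normal R R', isSolvable_sup_normal R R'⟩
      (le_sup_left : R ≤ R ⊔ R'))
  have hchar : R.Characteristic := characteristic_iff_map_le.2 fun e =>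
    habs _ (hRn.map _ e.surjective)
      (Group.isSolvable_of_surjective (f := (R.equivMapOfInjective e.toMonoidHom e.injective).toMonoidHom)
        (MulEquiv.surjective _))
  refine ⟨R.map Q.subtype, inferInstance, map_subtype_le R, Group.isSolvable_of_surjective
    (f := (R.equivMapOfInjective Q.subtype Q.subtype_injective).toMonoidHom) (MulEquiv.surjective _),
    fun a ha => ⟨⟨a, hNQ ha⟩, habs (N.subgroupOf Q) (normal_subgroupOf_of_le_normalizer hN) ?_ ha, rfl⟩⟩
  exact Group.isSolvable_of_isSolvable_injective (f := (subgroupOfEquivOfLe hNQ).toMonoidHom)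
    (MulEquiv.injective _)

namespace Cfg

variable {K : Subgroup G} {p r : ℕ} {x : G} {P S : Subgroup G}

/-- If the relation "equal or product of order `p`" is transitive, the configuration is absurd. -/
theorem equiv_absurd (h : Cfg K p r x P S)
    (heq : ∀ a ∈ invols G, ∀ b ∈ invols G, ∀ c ∈ invols G, orderOf (a * b) = p →
      orderOf (b * c) = p → a = c ∨ orderOf (a * c) = p) : False := by
  classical
  let R : G → G → Prop := fun a b => a = b ∨ orderOf (a * b) = p
  have hsymm : ∀ {a b : G}, a ∈ invols G → b ∈ invols G → R a b → R b a := by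
    rintro a b ha hb (rfl | ho)
    · exact Or.inl rfl
    · exact Or.inr ((orderOf_prod_comm ha hb).trans ho)
  have htrans : ∀ {a b c : G}, a ∈ invols G → b ∈ invols G → c ∈ invols G → R a b → R b c → R a c := by
    rintro a b c ha hb hc (rfl | h1) (rfl | h2)
    · exact Or.inl rfl
    · exact Or.inr h2
    · exact Or.inr h1
    · exact heq a ha b hb c hc h1 h2
  have hconj : ∀ {a b : G} (g : G), R a b → R (g * a * g⁻¹) (g * b * g⁻¹) := by
    rintro a b g (rfl | ho)
    · exact Or.inl rfl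
    · exact Or.inr ((orderOf_mul_img g a b).trans ho)
  have hfix : ∀ {d e : G}, d ∈ invols G → e ∈ invols G → R (d * e * d⁻¹) e → R d e := by
    intro d e hd he hde
    by_contra hn
    have hne : e ≠ d := fun he0 => hn (Or.inl he0.symm)
    have ho : orderOf (e * d) = r := (h.order e he d hd hne).resolve_left
      fun h1 => hn (hsymm he hd (Or.inr h1))
    have ho2 : orderOf (e * (d * e * d⁻¹)) = r := by
      rw [conj_eq hd, orderOf_mul_conj, Nat.Coprime.orderOf_pow, ho]
      exact (h.odd_mul he hd).coprime_two_right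
    rcases hde with h1 | h1
    · rw [h1, Invol.mul_self_eq_one he, orderOf_one] at ho2
      exact h.rprime.ne_one ho2.symm
    · exact h.not_both h1 (by rw [orderOf_prod_comm he (OddTwo.conj_mem he d)]; exact ho2)
  let B : G → Set G := fun a => {d ∈ invols G | R a d}
  let E : G → G → Set G := fun a b => {d ∈ invols G | R (d * a * d⁻¹) b}
  set m := (B x).ncard with hm
  have hBconj : ∀ (g a : G), B (g * a * g⁻¹) = img g (B a) := by
    intro g a
    ext d
    rw [mem_img]
    constructor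
    · rintro ⟨hd, hR⟩
      refine ⟨by simpa using OddTwo.conj_mem hd g⁻¹, ?_⟩
      have := hconj g⁻¹ hR
      simpa [mul_assoc] using this
    · rintro ⟨hd, hR⟩
      have h1 : g * (g⁻¹ * d * g) * g⁻¹ = d := by group
      refine ⟨h1 ▸ OddTwo.conj_mem hd g, ?_⟩
      have := hconj g hR
      rwa [h1] at this
  have hBcard : ∀ a ∈ invols G, (B a).ncard = m := by
    intro a ha
    obtain ⟨g, -, rfl⟩ := h.exists_conj h.xD ha
    rw [hBconj, ncard_img]
  have hEcard : ∀ a ∈ invols G, ∀ b ∈ invols G, (E a b).ncard = m := by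
    intro a ha b hb
    have himg : (fun d => d * a * d⁻¹) '' E a b = B b := by
      ext w
      constructor
      · rintro ⟨d, hd, rfl⟩
        exact ⟨OddTwo.conj_mem ha d, hsymm (OddTwo.conj_mem ha d) hb hd.2⟩
      · rintro ⟨hw, hR⟩
        refine ⟨mid a w, ⟨h.mid_mem ha hw, ?_⟩, h.mid_conj' ha hw⟩
        rw [h.mid_conj' ha hw]
        exact hsymm hb hw hR
    rw [← hBcard b hb, ← himg, Set.InjOn.ncard_image]
    intro d hd d' hd' he
    exact (h.swap_eq ha hd.1 rfl).trans ((congrArg (mid a) he).trans (h.swap_eq ha hd'.1 rfl).symm)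
  have hm2 : 2 ≤ m := by
    obtain ⟨y, hy, ho⟩ := h.hasP x h.xD
    refine (Set.one_lt_ncard (Set.toFinite _)).2
      ⟨x, ⟨h.xD, Or.inl rfl⟩, y, ⟨hy, Or.inr ho⟩, h.ne_of_p h.xD ho⟩
  -- a cross pair fixes no class
  have hfree : ∀ z ∈ invols G, ¬ R x z → ∀ c ∈ invols G, ¬ R (x * z * c * (x * z)⁻¹) c := by
    set Zs := invols G \ B x with hZs
    set F : G → Set G := fun z => {c ∈ invols G | R (x * z * c * (x * z)⁻¹) c} with hF
    have hnotx : ∀ z ∈ Zs, ∀ c ∈ F z, c ∈ Zs := by
      rintro z ⟨hz, hzx⟩ c ⟨hc, hR⟩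
      refine ⟨hc, fun hcx => hzx ⟨hz, ?_⟩⟩
      have h1 : R (x * z * x * (x * z)⁻¹) x :=
        htrans (OddTwo.conj_mem h.xD _) (OddTwo.conj_mem hc (x * z)) h.xD (hconj (x * z) hcx.2)
          (htrans (OddTwo.conj_mem hc (x * z)) hc h.xD hR (hsymm h.xD hc hcx.2))
      have h2 := hconj x h1
      rw [show x * (x * z * x * (x * z)⁻¹) * x⁻¹ = x * x * (z * x * z⁻¹) * (x * x)⁻¹ by group,
        mul_inv_cancel_right x x, Invol.mul_self_eq_one h.xD, one_mul, inv_one, mul_one] at h2
      exact hsymm hz h.xD (hfix hz h.xD h2)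
    have hconst : ∀ z ∈ Zs, ∀ z' ∈ Zs, (F z).ncard = (F z').ncard := by
      intro z hz z' hz'
      have ho : ∀ w ∈ Zs, x ≠ w ∧ orderOf (x * w) = r := fun w hw => by
        have hne : x ≠ w := fun he => hw.2 ⟨hw.1, Or.inl he⟩
        exact ⟨hne, (h.order x h.xD w hw.1 hne).resolve_left fun h1 => hw.2 ⟨hw.1, Or.inr h1⟩⟩
      obtain ⟨g, hgx, rfl⟩ := h.trans x h.xD z hz.1 z' hz'.1 (ho z hz).1 (ho z' hz').1
        ((ho z hz).2.trans (ho z' hz').2.symm)
      have hgx' : g * x * g⁻¹ = x := by rw [hgx.eq, mul_inv_cancel_right]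
      rw [← ncard_img g (F z)]
      congr 1
      ext c
      rw [mem_img]
      have e : x * (g * z * g⁻¹) = g * (x * z) * g⁻¹ := by
        conv_lhs => rw [← hgx']
        rw [conj_mul]
      simp only [hF, Set.mem_ofPred_eq, e]
      constructor
      · rintro ⟨hc, hR⟩
        have h1 := hconj g hR
        refine ⟨?_, ?_⟩
        · have h3 := OddTwo.conj_mem hc g
          rwa [show g * (g⁻¹ * c * g) * g⁻¹ = c by group] at h3
        · rwa [show g * (x * z * (g⁻¹ * c * g) * (x * z)⁻¹) * g⁻¹ =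
            g * (x * z) * g⁻¹ * c * (g * (x * z) * g⁻¹)⁻¹ by group,
            show g * (g⁻¹ * c * g) * g⁻¹ = c by group] at h1
      · rintro ⟨hc, hR⟩
        have h1 := hconj g⁻¹ hR
        refine ⟨by simpa using OddTwo.conj_mem hc g⁻¹, ?_⟩
        rwa [show g⁻¹ * (g * (x * z) * g⁻¹ * c * (g * (x * z) * g⁻¹)⁻¹) * g⁻¹⁻¹ =
          x * z * (g⁻¹ * c * g) * (x * z)⁻¹ by group,
          show g⁻¹ * c * g⁻¹⁻¹ = g⁻¹ * c * g by group] at h1
    intro z hz hxz c hc hR
    obtain ⟨Zf, hZf⟩ := (Set.toFinite Zs).exists_finset_coe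
    have hzs : z ∈ Zs := ⟨hz, fun hb => hxz hb.2⟩
    have hbig : m ≤ (F z).ncard := by
      rw [← hBcard c hc]
      refine Set.ncard_le_ncard ?_ (Set.toFinite _)
      rintro d ⟨hd, hcd⟩
      exact ⟨hd, htrans (OddTwo.conj_mem hd _) (OddTwo.conj_mem hc (x * z)) hd
        (hconj (x * z) (hsymm hc hd hcd)) (htrans (OddTwo.conj_mem hc (x * z)) hc hd hR hcd)⟩
    have hsum : ∑ w ∈ Zf, (Zf.filter fun a => a ∈ F w).card =
        ∑ a ∈ Zf, (Zf.filter fun w => a ∈ F w).card :=
      Finset.sum_card_bipartiteAbove_eq_sum_card_bipartiteBelow fun (w a : G) => a ∈ F w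
    have hrow : ∀ w ∈ Zf, (Zf.filter fun a => a ∈ F w).card = (F z).ncard := by
      intro w hw
      have hwz : w ∈ Zs := hZf ▸ hw
      rw [hconst z hzs w hwz, ← Set.ncard_coe_finset, Finset.coe_filter]
      congr 1
      ext a
      simp only [Set.mem_ofPred_eq, ← Finset.mem_coe, hZf]
      exact ⟨fun ha => ha.2, fun ha => ⟨hnotx w hwz a ha, ha⟩⟩
    have hcol : ∀ a ∈ Zf, (Zf.filter fun w => a ∈ F w).card ≤ m - 1 := by
      intro a ha
      have haz : a ∈ Zs := hZf ▸ ha
      set b := x * a * x⁻¹ with hb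
      have hbD : b ∈ invols G := OddTwo.conj_mem haz.1 x
      rw [← hEcard a haz.1 b hbD, ← Set.ncard_sdiff_singleton_of_mem
        (show x ∈ E a b from ⟨h.xD, Or.inl rfl⟩), ← Set.ncard_coe_finset, Finset.coe_filter]
      refine Set.ncard_le_ncard ?_ (Set.toFinite _)
      rintro w ⟨hw, -, hR'⟩
      have hwz : w ∈ Zs := hZf ▸ hw
      refine ⟨⟨hwz.1, ?_⟩, fun he => hwz.2 ⟨hwz.1, Or.inl he.symm⟩⟩
      have h1 := hconj x hR'
      rw [show x * (x * w * a * (x * w)⁻¹) * x⁻¹ = x * x * (w * a * w⁻¹) * (x * x)⁻¹ by group,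
        Invol.mul_self_eq_one h.xD, one_mul, inv_one, mul_one] at h1
      exact h1
    have h1 : Zf.card * (F z).ncard ≤ Zf.card * (m - 1) := by
      calc Zf.card * (F z).ncard = ∑ w ∈ Zf, (Zf.filter fun a => a ∈ F w).card := by
            rw [Finset.sum_congr rfl hrow, Finset.sum_const, smul_eq_mul]
        _ ≤ Zf.card • (m - 1) := hsum ▸ Finset.sum_le_card_nsmul _ _ _ hcol
        _ = Zf.card * (m - 1) := smul_eq_mul _ _
    have hpos : 0 < Zf.card := Finset.card_pos.2 ⟨z, by rw [← Finset.mem_coe, hZf]; exact hzs⟩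
    have := Nat.le_of_mul_le_mul_left h1 hpos
    omega
  have hfree' : ∀ d ∈ invols G, ∀ e ∈ invols G, ∀ c ∈ invols G, ¬ R d e →
      ¬ R (d * e * c * (d * e)⁻¹) c := by
    intro d hd e he c hc hn hR
    obtain ⟨g, -, hg⟩ := h.exists_conj hd h.xD
    refine hfree (g * e * g⁻¹) (OddTwo.conj_mem he g) (fun h1 => hn ?_) (g * c * g⁻¹)
      (OddTwo.conj_mem hc g) ?_
    · rw [← hg] at h1
      have := hconj g⁻¹ h1
      simpa [mul_assoc] using this
    · rw [← hg]
      have := hconj g hR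
      rwa [show g * (d * e * c * (d * e)⁻¹) * g⁻¹ =
        g * d * g⁻¹ * (g * e * g⁻¹) * (g * c * g⁻¹) * (g * d * g⁻¹ * (g * e * g⁻¹))⁻¹ by group] at this
  -- members of a class act alike
  have halike : ∀ d ∈ invols G, ∀ d' ∈ invols G, R d d' → ∀ c ∈ invols G,
      R (d * d' * c * (d * d')⁻¹) c := by
    intro d hd d' hd' hdd c hc
    by_cases hdc : R d c
    · refine htrans (OddTwo.conj_mem hc _) (OddTwo.conj_mem hd (d * d')) hc
        (hconj (d * d') (hsymm hd hc hdc)) (htrans (OddTwo.conj_mem hd (d * d')) hd hc ?_ hdc)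
      have h1 : R (d' * d * d'⁻¹) d := by
        have h2 := hconj d' hdd
        rw [mul_inv_cancel_right] at h2
        exact htrans (OddTwo.conj_mem hd d') hd' hd h2 (hsymm hd hd' hdd)
      have h2 := hconj d h1
      rwa [show d * (d' * d * d'⁻¹) * d⁻¹ = d * d' * d * (d * d')⁻¹ by group, mul_inv_cancel_right]
        at h2
    · set b := d * c * d⁻¹ with hb
      have hbD : b ∈ invols G := OddTwo.conj_mem hc d
      have hsub : E c b ⊆ B d := by
        rintro e ⟨he, hR⟩
        refine ⟨he, ?_⟩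
        by_contra hn
        refine hfree' d hd e he c hc hn ?_
        have h2 := hconj d hR
        rwa [show d * (e * c * e⁻¹) * d⁻¹ = d * e * c * (d * e)⁻¹ by group, hb,
          show d * (d * c * d⁻¹) * d⁻¹ = d * d * c * (d * d)⁻¹ by group,
          Invol.mul_self_eq_one hd, one_mul, inv_one, mul_one] at h2
      have heq' := Set.eq_of_subset_of_ncard_le hsub
        (by rw [hEcard c hc b hbD, hBcard d hd]) (Set.toFinite _)
      have h1 : d' ∈ E c b := heq' ▸ ⟨hd', hdd⟩
      have h2 := hconj d h1.2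
      rwa [show d * (d' * c * d'⁻¹) * d⁻¹ = d * d' * c * (d * d')⁻¹ by group, hb,
        show d * (d * c * d⁻¹) * d⁻¹ = d * d * c * (d * d)⁻¹ by group,
        Invol.mul_self_eq_one hd, one_mul, inv_one, mul_one] at h2
  -- the kernel
  let Q : Subgroup G :=
    { carrier := {g | g ∈ K ∧ ∀ c ∈ invols G, R (g * c * g⁻¹) c}
      one_mem' := ⟨K.one_mem, fun c _ => Or.inl (by rw [one_mul, inv_one, mul_one])⟩
      mul_mem' := fun {a b} ha hb => ⟨K.mul_mem ha.1 hb.1, fun c hc => by
        have e : a * b * c * (a * b)⁻¹ = a * (b * c * b⁻¹) * a⁻¹ := by group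
        rw [e]
        exact htrans (OddTwo.conj_mem (OddTwo.conj_mem hc b) a) (OddTwo.conj_mem hc b) hc
          (ha.2 _ (OddTwo.conj_mem hc b)) (hb.2 c hc)⟩
      inv_mem' := fun {a} ha => ⟨K.inv_mem ha.1, fun c hc => by
        have := ha.2 _ (OddTwo.conj_mem hc a⁻¹)
        rw [show a * (a⁻¹ * c * a⁻¹⁻¹) * a⁻¹ = c by group] at this
        exact hsymm hc (OddTwo.conj_mem hc a⁻¹) this⟩ }
  have hQn : Q.Normal := ⟨fun n hn g => ⟨h.normal.conj_mem n hn.1 g, fun c hc => by
    have h1 := hconj g (hn.2 _ (OddTwo.conj_mem hc g⁻¹))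
    rwa [show g * (n * (g⁻¹ * c * g⁻¹⁻¹) * n⁻¹) * g⁻¹ = g * n * g⁻¹ * c * (g * n * g⁻¹)⁻¹ by group,
      show g * (g⁻¹ * c * g⁻¹⁻¹) * g⁻¹ = c by group] at h1⟩⟩
  obtain ⟨y, hy, ho⟩ := h.hasP x h.xD
  set Sx := {g | ∃ d ∈ B x, ∃ d' ∈ B x, d * d' = g} with hSx
  set N := closure Sx with hN
  have hNQ : N ≤ Q := (closure_le _).2 (by
    rintro _ ⟨d, hd, d', hd', rfl⟩
    exact ⟨h.mul_mem hd.1 hd'.1, fun c hc =>
      halike d hd.1 d' hd'.1 (htrans hd.1 h.xD hd'.1 (hsymm h.xD hd.1 hd.2) hd'.2) c hc⟩)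
  have hBQ : ∀ g ∈ Q, ∀ d ∈ B x, g * d * g⁻¹ ∈ B x := fun g hg d hd =>
    ⟨OddTwo.conj_mem hd.1 g, htrans h.xD hd.1 (OddTwo.conj_mem hd.1 g) hd.2
      (hsymm (OddTwo.conj_mem hd.1 g) hd.1 (hg.2 d hd.1))⟩
  have hQN : Q ≤ normalizer (N : Set G) := fun g hg => by
    refine Invol.mem_normalizer_of_conj_le ?_
    rw [hN, MonoidHom.map_closure]
    refine (closure_le _).2 ?_
    rintro _ ⟨_, ⟨d, hd, d', hd', rfl⟩, rfl⟩
    exact subset_closure ⟨g * d * g⁻¹, hBQ g hg d hd, g * d' * g⁻¹, hBQ g hg d' hd',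
      by rw [conj_mul]; rfl⟩
  have hNs : Group.IsSolvable N := by
    set M := closure (B x) with hM
    have hNM : N ≤ M := (closure_le _).2 (by
      rintro _ ⟨d, hd, d', hd', rfl⟩
      exact mul_mem (subset_closure hd) (subset_closure hd'))
    let x' : M := ⟨x, subset_closure ⟨h.xD, Or.inl rfl⟩⟩
    have hsub : ∀ a ∈ conjugatesOf x', (a : G) ∈ B x := by
      intro a ha
      obtain ⟨g, rfl⟩ := isConj_iff.1 ha
      have hmem : ∀ s ∈ B x, ∀ e ∈ B x, s * e * s⁻¹ ∈ B x := by
        intro s hs e he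
        refine ⟨OddTwo.conj_mem he.1 s, ?_⟩
        have h1 : R (s * e * s⁻¹) s := by
          have h2 := hconj s (htrans he.1 h.xD hs.1 (hsymm h.xD he.1 he.2) hs.2)
          rwa [mul_inv_cancel_right] at h2
        exact htrans h.xD hs.1 (OddTwo.conj_mem he.1 s) hs.2
          (hsymm (OddTwo.conj_mem he.1 s) hs.1 h1)
      exact conj_mem_of_closure hmem (fun s hs e he => by
        have := hmem s hs e he
        rwa [Invol.inv_eq_self hs.1] at this ⊢) g.2 (show x ∈ B x from ⟨h.xD, Or.inl rfl⟩)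
    have hall : ∀ (a : G) (ha : a ∈ B x), (⟨a, subset_closure ha⟩ : M) ∈ conjugatesOf x' := by
      intro a ha
      exact isConj_iff.2 ⟨⟨mid x a, mid_mem_subgroup x'.2 (subset_closure ha)⟩,
        Subtype.ext (h.mid_conj' h.xD ha.1)⟩
    have hgen : closure (conjugatesOf x') = ⊤ := by
      refine eq_top_iff.2 fun a _ => ?_
      have hle : M ≤ (closure (conjugatesOf x')).map M.subtype :=
        (closure_le _).2 fun b hb => ⟨_, subset_closure (hall b hb), rfl⟩
      obtain ⟨b, hb, he⟩ := hle a.2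
      exact Subtype.ext he ▸ hb
    have hnil := S1618.result p h.pprime h.pTwo (D := conjugatesOf x')
      (fun a ha => (orderOf_submonoid a).symm.trans (hsub a ha).1)
      ⟨x', mem_conjugatesOf_self, rfl⟩ hgen (fun a ha b hb hne => ⟨1, by
        rw [pow_one, ← orderOf_submonoid]
        rcases htrans (hsub a ha).1 h.xD (hsub b hb).1 (hsymm h.xD (hsub a ha).1 (hsub a ha).2)
          (hsub b hb).2 with h1 | h1
        · exact absurd (Subtype.ext h1) hne
        · exact h1⟩)
    have hMs : Group.IsSolvable M := by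
      have h1 : Group.IsSolvable (commutator M) := inferInstance
      exact Group.isSolvable_of_ker_le_range (commutator M).subtype Abelianization.of
        (by rw [Abelianization.ker_of, range_subtype])
    exact Group.isSolvable_of_isSolvable_injective (inclusion_injective hNM)
  obtain ⟨M', hM'n, hM'Q, hM's, hNM'⟩ := exists_solvable_normal_ge hNQ hQN hNs
  have h1 : x * y ∈ M' := hNM' (subset_closure
    ⟨x, ⟨h.xD, Or.inl rfl⟩, y, ⟨hy, Or.inr ho⟩, rfl⟩)
  rw [h.rad M' hM'n (fun a ha => (hM'Q ha).1) hM's, mem_bot] at h1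
  rw [h1, orderOf_one] at ho
  exact h.pprime.ne_one ho.symm

theorem sg_ne_one (h : Cfg K p r x P S) : sg p x P ≠ 1 := by
  intro hs
  have hsub : cls P x \ {x} ⊆ nbr p x := fun u hu =>
    ⟨h.cls_mem hu.1, h.clique (self_mem_cls P x) hu.1 fun he => hu.2 he.symm⟩
  have heq := Set.eq_of_subset_of_ncard_le hsub (by
    rw [h.nbr_eq_mul, hs, one_mul, Set.ncard_sdiff_singleton_of_mem (self_mem_cls P x)])
    (Set.toFinite _)
  refine h.equiv_absurd fun a ha b hb c hc h1 h2 => ?_
  obtain ⟨g, -, hg⟩ := h.exists_conj hb h.xD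
  have hmem : ∀ d ∈ invols G, orderOf (b * d) = p → g * d * g⁻¹ ∈ cls P x := by
    intro d hd ho
    have h3 : g * d * g⁻¹ ∈ nbr p x :=
      ⟨OddTwo.conj_mem hd g, by rw [← hg, orderOf_mul_img, ho]⟩
    rw [← heq] at h3
    exact h3.1
  rcases eq_or_ne a c with hac | hac
  · exact Or.inl hac
  refine Or.inr ?_
  rw [← orderOf_mul_img g a c]
  exact h.clique (hmem a ha ((orderOf_prod_comm ha hb).trans h1)) (hmem c hc h2)
    fun he => hac (mul_left_cancel (mul_right_cancel he))

theorem one_lt_sg (h : Cfg K p r x P S) : 1 < sg p x P := by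
  have := h.sg_ne_one
  have := h.sg_odd.1.pos
  omega

theorem sg_lt (h : Cfg K p r x P S) : sg p x P < (cls S x).ncard := by
  refine lt_of_le_of_ne h.sg_le fun he => h.symm.sg_ne_one ?_
  have hid := h.identity
  obtain ⟨a, ha⟩ : ∃ a, (cls P x).ncard = a + 1 := ⟨_, (Nat.sub_add_cancel h.one_lt_ncard_cls.le).symm⟩
  obtain ⟨b, hb⟩ : ∃ b, (cls S x).ncard = b + 1 :=
    ⟨_, (Nat.sub_add_cancel h.symm.one_lt_ncard_cls.le).symm⟩
  rw [he, ha, hb, Nat.add_sub_cancel, Nat.add_sub_cancel] at hid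
  have h1 : sg r x S * b = b := by
    have : (a + 1) * (b + 1) = 1 + (b + 1) * a + b := by ring
    omega
  exact mul_eq_right₀ (by have := h.symm.one_lt_ncard_cls; omega) |>.1 h1

end Cfg

end Cfsg.Agent.RankThreeInvol
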