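import Cfsg.Agent.RankThreeInvol.TwoType.Central

/-!
# The case that `Z(J(S))` does not centralise the base involution
-/

set_option autoImplicit false

namespace Cfsg.Agent.RankThreeInvol

open Subgroup

variable {G : Type*} [Group G]

/-- The involutions inverting `a`. -/
def invertersOf (a : G) : Set G := {d ∈ invols G | d * a * d⁻¹ = a⁻¹}

theorem img_invertersOf (g a : G) : img g (invertersOf a) = invertersOf (g * a * g⁻¹) := by
  ext d
  rw [mem_img]
  constructor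
  · rintro ⟨hd, ho⟩
    have h1 : g * (g⁻¹ * d * g) * g⁻¹ = d := by group
    refine ⟨h1 ▸ OddTwo.conj_mem hd g, ?_⟩
    have h2 := congrArg (fun b => g * b * g⁻¹) ho
    simpa [mul_assoc] using h2
  · rintro ⟨hd, ho⟩
    refine ⟨by simpa using OddTwo.conj_mem hd g⁻¹, ?_⟩
    have h2 := congrArg (fun b => g⁻¹ * b * g) ho
    simpa [mul_assoc] using h2

theorem dvd_ncard_of_stab [Finite G] {H : Subgroup G} {b : ℕ} (X : Set (Set G))
    (hX : ∀ g ∈ H, ∀ Q ∈ X, img g Q ∈ X)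
    (hb : ∀ Q ∈ X, b ∣ (H ⊓ imgStab Q).relIndex H) : b ∣ X.ncard := by
  classical
  let _ : MulAction H X :=
    { smul := fun g Q => ⟨img (g : G) Q.1, hX g g.2 Q.1 Q.2⟩
      one_smul := fun Q => Subtype.ext (img_one Q.1)
      mul_smul := fun g k Q => Subtype.ext (img_img (g : G) (k : G) Q.1).symm }
  have := Fintype.ofFinite (MulAction.orbitRel.Quotient H X)
  rw [← Nat.card_coe_set_eq, Nat.card_congr (MulAction.selfEquivSigmaOrbitsQuotientStabilizer H X),
    Nat.card_sigma]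
  refine Finset.dvd_sum fun ω _ => ?_
  have hs : MulAction.stabilizer H ω.out = (H ⊓ imgStab ω.out.1).subgroupOf H := by
    ext g
    rw [MulAction.mem_stabilizer_iff, mem_subgroupOf, mem_inf]
    exact ⟨fun he => ⟨g.2, congrArg Subtype.val he⟩, fun he => Subtype.ext he.2⟩
  show b ∣ (MulAction.stabilizer H ω.out).index
  rw [hs]
  exact hb _ ω.out.2

namespace Cfg

variable [Finite G] {K : Subgroup G} {p r : ℕ} {x : G} {P S : Subgroup G}

/-- The part of `Z(J(S))` inverted by `x`. -/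
def invPart (h : Cfg K p r x P S) : Subgroup G where
  carrier := {a | a ∈ Cfsg.centerThompsonAOf S ∧ x * a * x = a⁻¹}
  one_mem' := ⟨one_mem _, by rw [mul_one, Invol.mul_self_eq_one h.xD, inv_one]⟩
  mul_mem' := fun {a b} ha hb => ⟨mul_mem ha.1 hb.1, by
    rw [(h.W_comm ha.1 hb.1).eq, mul_inv_rev]
    calc x * (b * a) * x = x * b * (x * x) * a * x := by
          rw [Invol.mul_self_eq_one h.xD, mul_one]; simp only [mul_assoc]
      _ = x * b * x * (x * a * x) := by simp only [mul_assoc]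
      _ = b⁻¹ * a⁻¹ := by rw [ha.2, hb.2]
      _ = a⁻¹ * b⁻¹ := ((h.W_comm hb.1 ha.1).inv_inv).eq⟩
  inv_mem' := fun {a} ha => ⟨inv_mem ha.1, by
    rw [inv_inv, ← inv_inj, mul_inv_rev, mul_inv_rev, inv_inv, Invol.inv_eq_self h.xD, ← mul_assoc,
      ha.2]⟩

theorem mem_invPart (h : Cfg K p r x P S) {a : G} :
    a ∈ h.invPart ↔ a ∈ Cfsg.centerThompsonAOf S ∧ x * a * x = a⁻¹ := Iff.rfl

theorem orderOf_inverted (h : Cfg K p r x P S) {a : G} (ha : a ∈ S) (ha1 : a ≠ 1)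
    (hi : x * a * x = a⁻¹) : x * a ∈ invols G ∧ orderOf a = r ∧ x ≠ x * a := by
  have := h.rFact
  have hv : x * a ∈ invols G := by
    refine Invol.orderOf_eq_two_iff.2 ⟨fun he => h.notMem h.xD ?_, ?_⟩
    · rw [mul_eq_one_iff_eq_inv.1 he]
      exact inv_mem (h.S_le ha)
    · rw [← mul_assoc, hi, inv_mul_cancel]
  have hne : x ≠ x * a := fun he => ha1 (mul_eq_left.1 he.symm)
  refine ⟨hv, ?_, hne⟩
  obtain ⟨k, hk⟩ := IsPGroup.iff_orderOf.1 h.Sinv.isPGroup ⟨a, ha⟩
  rw [orderOf_mk] at hk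
  rcases h.order x h.xD _ hv hne with ho | ho <;>
    rw [Invol.mul_mul_cancel_self h.xD] at ho
  · rw [ho] at hk
    exact absurd ((Nat.prime_dvd_prime_iff_eq h.pprime h.rprime).1
      (h.pprime.dvd_of_dvd_pow (dvd_of_eq hk))) h.pr
  · exact ho

variable (hW : ¬ ∀ w ∈ Cfsg.centerThompsonAOf S, Commute w x)
include hW

theorem exists_inverted_W (h : Cfg K p r x P S) : ∃ a ∈ h.invPart, a ≠ 1 := by
  push Not at hW
  obtain ⟨w, hw, hwx⟩ := hW
  set W := Cfsg.centerThompsonAOf S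
  have hwx' : x * w * x ∈ W := by
    rw [← conj_eq h.xD]; exact (mem_normalizer_iff.1 h.x_normalizes_W w).1 hw
  refine ⟨w⁻¹ * (x * w * x), ⟨mul_mem (inv_mem hw) hwx', ?_⟩, fun he => hwx ?_⟩
  · have hxw' : x * w⁻¹ * x = (x * w * x)⁻¹ := by
      rw [mul_inv_rev, mul_inv_rev, Invol.inv_eq_self h.xD, mul_assoc]
    rw [mul_inv_rev, inv_inv]
    calc x * (w⁻¹ * (x * w * x)) * x = x * w⁻¹ * x * (w * (x * x)) := by simp only [mul_assoc]
      _ = (x * w * x)⁻¹ * w := by rw [Invol.mul_self_eq_one h.xD, mul_one, hxw']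
  · have h1 : w = x * w * x := inv_mul_eq_one.1 he
    show w * x = x * w
    conv_lhs => rw [h1]
    rw [mul_assoc, Invol.mul_self_eq_one h.xD, mul_one]

/-- Elements of `S` inverted by `x` lie in `Z(J(S))`. -/
theorem inverted_mem_W (h : Cfg K p r x P S) {a : G} (ha : a ∈ S) (hi : x * a * x = a⁻¹) :
    a ∈ h.invPart := by
  rcases eq_or_ne a 1 with rfl | ha1
  · exact one_mem _
  obtain ⟨a₀, ha₀, ha₀1⟩ := h.exists_inverted_W hW
  obtain ⟨h1, h2, h3⟩ := h.orderOf_inverted ha ha1 hi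
  obtain ⟨e1, e2, e3⟩ := h.orderOf_inverted (h.W_le ha₀.1) ha₀1 ha₀.2
  obtain ⟨g, hgx, hg⟩ := h.trans x h.xD _ h1 _ e1 h3 e3 (by
    rw [Invol.mul_mul_cancel_self h.xD, Invol.mul_mul_cancel_self h.xD, h2, e2])
  have hga : g * a * g⁻¹ = a₀ := by
    rw [← conj_mul, show g * x * g⁻¹ = x by rw [hgx.eq, mul_inv_cancel_right]] at hg
    exact mul_left_cancel hg
  obtain ⟨n, hn, hna⟩ := h.fusion {a} (Set.singleton_subset_iff.2 ha) g
    (by rintro _ rfl; rw [hga]; exact h.W_le ha₀.1)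
  refine ⟨?_, hi⟩
  rw [mem_normalizer_iff.1 hn a, ← hna a rfl, hga]
  exact ha₀.1

theorem mem_cls_iff (h : Cfg K p r x P S) {u : G} :
    u ∈ cls S x ↔ x * u ∈ h.invPart := by
  constructor
  · intro hu
    obtain ⟨s, hs, rfl⟩ := hu
    refine h.inverted_mem_W hW ?_ (conj_prod h.xD (OddTwo.conj_mem h.xD s))
    rw [show x * (s * x * s⁻¹) = x * s * x⁻¹ * s⁻¹ by
      rw [Invol.inv_eq_self h.xD]; simp only [mul_assoc]]
    exact mul_mem ((mem_normalizer_iff.1 h.Sinv.normal s).1 hs) (inv_mem hs)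
  · intro hu
    have hD : u ∈ invols G := by
      rcases eq_or_ne (x * u) 1 with he | he
      · have : u = x :=
          (inv_eq_of_mul_eq_one_right he).symm.trans (Invol.inv_eq_self h.xD)
        exact this ▸ h.xD
      · have := (h.orderOf_inverted (h.W_le hu.1) he hu.2).1
        rwa [Invol.mul_mul_cancel_self h.xD] at this
    set m := (x * u) ^ ((orderOf (x * u) + 1) / 2) with hm
    refine ⟨m⁻¹, inv_mem (pow_mem (h.W_le hu.1) _), ?_⟩
    have h1 : x * m * x * (x * m)⁻¹ = u := h.mid_conj' h.xD hD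
    have h2 : x * m * x = m⁻¹ := conj_prod_pow h.xD hD _
    rw [← h1, inv_inv, mul_inv_rev, Invol.inv_eq_self h.xD, h2]
    have h3 : m⁻¹ * x = x * m := by
      rw [← h2, mul_assoc _ x x, Invol.mul_self_eq_one h.xD, mul_one]
    rw [h3, ← mul_assoc, h3]

theorem card_invPart (h : Cfg K p r x P S) : Nat.card h.invPart = (cls S x).ncard := by
  rw [← Nat.card_coe_set_eq]
  exact Nat.card_congr
    { toFun := fun a => ⟨x * a, (h.mem_cls_iff hW).2 (by
        rw [Invol.mul_mul_cancel_self h.xD]; exact a.2)⟩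
      invFun := fun u => ⟨x * u, (h.mem_cls_iff hW).1 u.2⟩
      left_inv := fun a => Subtype.ext (Invol.mul_mul_cancel_self h.xD _)
      right_inv := fun u => Subtype.ext (Invol.mul_mul_cancel_self h.xD _) }

theorem inverters_eq (h : Cfg K p r x P S) {a : G} (ha : a ∈ h.invPart) (ha1 : a ≠ 1) :
    invertersOf a = cls S x := by
  obtain ⟨-, hord, -⟩ := h.orderOf_inverted (h.W_le ha.1) ha1 ha.2
  have hsub : cls S x ⊆ invertersOf a := by
    intro u hu
    have he := (h.mem_cls_iff hW).1 hu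
    refine ⟨h.symm.cls_mem hu, ?_⟩
    have hc : Commute (x * u) a := h.W_comm he.1 ha.1
    calc u * a * u⁻¹ = x * (x * u) * a * (x * (x * u))⁻¹ := by
          rw [Invol.mul_mul_cancel_self h.xD]
      _ = x * ((x * u) * a * (x * u)⁻¹) * x := by
          rw [mul_inv_rev x (x * u), Invol.inv_eq_self h.xD]
          simp only [mul_assoc]
      _ = a⁻¹ := by rw [hc.eq, mul_inv_cancel_right, ha.2]
  refine (Set.eq_of_subset_of_ncard_le hsub (h.coclique_le (fun d hd => hd.1) ?_)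
    (Set.toFinite _)).symm
  intro d hd d' hd' hne
  refine (h.order d hd.1 d' hd'.1 hne).resolve_left fun ho => ?_
  have hcomm : Commute (d * d') a := by
    refine mul_inv_eq_iff_eq_mul.1 ?_
    rw [show d * d' * a * (d * d')⁻¹ = d * (d' * a * d'⁻¹) * d⁻¹ by group, hd'.2, ← conj_inv, hd.2,
      inv_inv]
  set c := d * d' * a with hc
  have hco : orderOf c = p * r := by
    rw [hc, hcomm.orderOf_mul_eq_mul_orderOf_of_coprime (by
      rw [ho, hord]; exact (Nat.coprime_primes h.pprime h.rprime).2 h.pr), ho, hord]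
  have hinv : d * c * d = c⁻¹ := by
    rw [hc, mul_inv_rev, inv_prod hd.1 hd'.1]
    have h1 : d * a = a⁻¹ * d := mul_inv_eq_iff_eq_mul.1 hd.2
    have h2 : d' * a⁻¹ = a * d' := by
      rw [← hd'.2, mul_assoc d' a, ← mul_assoc, ← mul_assoc,
        Invol.mul_self_eq_one hd'.1, one_mul, Invol.inv_eq_self hd'.1]
    calc d * (d * d' * a) * d = d' * (a * d) := by
          rw [mul_assoc d d', Invol.mul_mul_cancel_self hd.1, mul_assoc]
      _ = d' * d * a⁻¹ := by
          rw [show a * d = d * a⁻¹ by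
            rw [← hd.2, ← mul_assoc d, ← mul_assoc d, Invol.mul_self_eq_one hd.1, one_mul,
              Invol.inv_eq_self hd.1], mul_assoc]
      _ = a⁻¹ * (d' * d) := by
          rw [← inv_prod hd.1 hd'.1]
          exact (hcomm.inv_inv).eq
  have hcK : c ∈ K := mul_mem (h.mul_mem hd.1 hd'.1) (h.S_le (h.W_le ha.1))
  have hpr1 : 1 < p * r := by
    have := h.pprime.two_le; have := h.rprime.two_le
    nlinarith
  have hv : d * c ∈ invols G := by
    refine Invol.orderOf_eq_two_iff.2 ⟨fun he => h.notMem hd.1 ?_, ?_⟩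
    · rw [mul_eq_one_iff_eq_inv.1 he]; exact inv_mem hcK
    · rw [← mul_assoc, hinv, inv_mul_cancel]
  have hne' : d ≠ d * c := fun he => by
    rw [mul_eq_left.1 he.symm, orderOf_one] at hco
    omega
  rcases h.order d hd.1 _ hv hne' with h4 | h4 <;>
    rw [Invol.mul_mul_cancel_self hd.1, hco] at h4
  · exact h.rprime.ne_one ((mul_eq_left₀ h.pprime.ne_zero).1 h4)
  · exact h.pprime.ne_one ((mul_eq_right₀ h.rprime.ne_zero).1 h4)

/-- A translate of the coclique is determined by any two of its members. -/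
theorem eq_inverters (h : Cfg K p r x P S) {Q : Set G} (hQ : Q ∈ trs (cls S x)) {u v : G}
    (hu : u ∈ Q) (hv : v ∈ Q) (hne : u ≠ v) : Q = invertersOf (u * v) := by
  obtain ⟨g, rfl⟩ := hQ
  obtain ⟨a, ha, rfl⟩ := hu
  obtain ⟨b, hb, rfl⟩ := hv
  have e1 := (h.mem_cls_iff hW).1 ha
  have e2 := (h.mem_cls_iff hW).1 hb
  have he : a * b = (x * a)⁻¹ * (x * b) := by
    rw [mul_inv_rev, Invol.inv_eq_self (h.symm.cls_mem ha), Invol.inv_eq_self h.xD, mul_assoc,
      Invol.mul_mul_cancel_self h.xD]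
  have hmem : a * b ∈ h.invPart := he ▸ mul_mem (inv_mem e1) e2
  have hne' : a * b ≠ 1 := fun h1 => hne
    (congrArg (fun c => g * c * g⁻¹) (eq_of_mul_eq_one (h.symm.cls_mem hb) h1))
  show img g (cls S x) = invertersOf (g * a * g⁻¹ * (g * b * g⁻¹))
  rw [← h.inverters_eq hW hmem hne', img_invertersOf, ← conj_mul]

theorem coclique_unique (h : Cfg K p r x P S) {Q Q' : Set G} (hQ : Q ∈ trs (cls S x))
    (hQ' : Q' ∈ trs (cls S x)) {u v : G} (hu : u ∈ Q) (hv : v ∈ Q) (hu' : u ∈ Q') (hv' : v ∈ Q')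
    (hne : u ≠ v) : Q = Q' :=
  (h.eq_inverters hW hQ hu hv hne).trans (h.eq_inverters hW hQ' hu' hv' hne).symm

theorem through_eq (h : Cfg K p r x P S) :
    {Q ∈ trs (cls S x) | x ∈ Q}.ncard = sg r x S := by
  classical
  obtain ⟨T, hT⟩ := (Set.toFinite {Q ∈ trs (cls S x) | x ∈ Q}).exists_finset_coe
  obtain ⟨Z, hZ⟩ := (Set.toFinite (nbr r x)).exists_finset_coe
  have hsum : ∑ Q ∈ T, (Z.filter fun u => u ∈ Q).card = ∑ u ∈ Z, (T.filter fun Q => u ∈ Q).card :=
    Finset.sum_card_bipartiteAbove_eq_sum_card_bipartiteBelow fun (Q : Set G) (u : G) => u ∈ Q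
  have h1 : ∀ Q ∈ T, (Z.filter fun u => u ∈ Q).card = (cls S x).ncard - 1 := by
    intro Q hQ
    have hQ' : Q ∈ trs (cls S x) ∧ x ∈ Q := by
      rw [← Finset.mem_coe, hT] at hQ
      exact hQ
    rw [← trs_ncard hQ'.1, ← Set.ncard_sdiff_singleton_of_mem hQ'.2, ← Set.ncard_coe_finset,
      Finset.coe_filter]
    congr 1
    ext u
    simp only [Set.mem_ofPred_eq, Set.mem_sdiff, Set.mem_singleton_iff, ← Finset.mem_coe, hZ]
    refine ⟨fun hu => ⟨hu.2, fun he => h.symm.ne_of_p h.xD hu.1.2 he.symm⟩,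
      fun hu => ⟨⟨h.symm.trs_subset hQ'.1 hu.1, ?_⟩, hu.1⟩⟩
    exact h.symm.trs_clique hQ'.1 hQ'.2 hu.1 fun he => hu.2 he.symm
  have h2 : ∀ u ∈ Z, (T.filter fun Q => u ∈ Q).card = 1 := by
    intro u hu
    have hu' : u ∈ nbr r x := hZ ▸ hu
    obtain ⟨Q, hQ, hxQ, huQ⟩ := h.symm.edge_trs h.xD hu'.1 hu'.2
    refine Finset.card_eq_one.2 ⟨Q, ?_⟩
    ext Q'
    rw [Finset.mem_filter, Finset.mem_singleton, ← Finset.mem_coe, hT, Set.mem_ofPred_eq]
    refine ⟨fun hQ' => h.coclique_unique hW hQ'.1.1 hQ hQ'.1.2 hQ'.2 hxQ huQ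
      (h.symm.ne_of_p h.xD hu'.2), ?_⟩
    rintro rfl
    exact ⟨⟨hQ, hxQ⟩, huQ⟩
  rw [Finset.sum_congr rfl h1, Finset.sum_congr rfl h2, Finset.sum_const, Finset.sum_const,
    smul_eq_mul, smul_eq_mul, mul_one] at hsum
  have hk := h.symm.nbr_eq_mul
  rw [← hZ, Set.ncard_coe_finset, ← hsum] at hk
  rw [← hT, Set.ncard_coe_finset]
  exact Nat.eq_of_mul_eq_mul_right (by have := h.symm.one_lt_ncard_cls; omega) hk

/-- The involutions normalising `Z(J(S))` form the base coclique. -/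
theorem normalizing_eq (h : Cfg K p r x P S) {v : G} (hv : v ∈ invols G)
    (hvW : v ∈ normalizer (Cfsg.centerThompsonAOf S : Set G)) : v ∈ cls S x := by
  have := h.pFact
  have := h.rFact
  by_contra hvR
  set W := Cfsg.centerThompsonAOf S with hW'
  obtain ⟨u, hu⟩ : (nbr p v ∩ cls S x).Nonempty := by
    refine (Set.ncard_pos (Set.toFinite _)).1 ?_
    rw [(h.nnb hv (R := cls S x) ⟨1, img_one _⟩ hvR).1]
    exact h.sg_odd.1.pos
  obtain ⟨s, hs, hsu⟩ := hu.2
  set v' := s⁻¹ * v * s with hv'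
  have hv'D : v' ∈ invols G := by simpa using OddTwo.conj_mem hv s⁻¹
  have hv'W : v' ∈ normalizer (W : Set G) :=
    mul_mem (mul_mem (inv_mem (h.S_le_normalizer_W hs)) hvW) (h.S_le_normalizer_W hs)
  have ho : orderOf (v' * x) = p := by
    have := orderOf_mul_img s⁻¹ v u
    rw [inv_inv, ← hsu, show s⁻¹ * (s * x * s⁻¹) * s = x by group, hsu] at this
    rw [hv', this]; exact hu.1.2
  have hv'R : v' ∉ cls S x := fun hv'R => h.not_both ho
    (h.symm.clique hv'R (self_mem_cls S x) (h.ne_of_p hv'D ho))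
  have hall : nbr p v' ∩ cls S x = cls S x := by
    refine Set.inter_eq_right.2 fun w hw => ⟨h.symm.cls_mem hw, ?_⟩
    have hne : v' ≠ w := fun he => hv'R (he ▸ hw)
    refine (h.order v' hv'D w (h.symm.cls_mem hw) hne).resolve_right fun hr => ?_
    set k₀ := v' * x
    set e := x * w
    have he : e ∈ W := ((h.mem_cls_iff hW).1 hw).1
    have hk₀ : k₀ ∈ normalizer (W : Set G) := mul_mem hv'W h.x_normalizes_W
    have hvw : v' * w = k₀ * e := by
      simp only [k₀, e, mul_assoc, Invol.mul_mul_cancel_self h.xD]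
    have hi : ∀ i : ℕ, (k₀ * e) ^ i * (k₀ ^ i)⁻¹ ∈ W := by
      intro i
      induction i with
      | zero => simp
      | succ i ih =>
        have h1 : k₀ ^ (i + 1) * e * (k₀ ^ (i + 1))⁻¹ ∈ W :=
          (mem_normalizer_iff.1 (pow_mem hk₀ (i + 1)) e).1 he
        have h2 := mul_mem ih h1
        convert h2 using 1
        rw [pow_succ, pow_succ]
        group
    have h3 := hi r
    rw [show (k₀ * e) ^ r = 1 by rw [← hvw, ← hr, pow_orderOf_eq_one], one_mul, inv_mem_iff] at h3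
    obtain ⟨k, hk⟩ := IsPGroup.iff_orderOf.1 h.Sinv.isPGroup ⟨k₀ ^ r, h.W_le h3⟩
    rw [orderOf_mk, Nat.Coprime.orderOf_pow (by
      rw [ho]; exact (Nat.coprime_primes h.pprime h.rprime).2 h.pr), ho] at hk
    exact h.pr ((Nat.prime_dvd_prime_iff_eq h.pprime h.rprime).1
      (h.pprime.dvd_of_dvd_pow (dvd_of_eq hk)))
  have := (h.nnb hv'D (R := cls S x) ⟨1, img_one _⟩ hv'R).1
  rw [hall] at this
  exact h.sg_lt.ne this.symm

theorem img_normalizer (h : Cfg K p r x P S) {n : G}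
    (hn : n ∈ normalizer (Cfsg.centerThompsonAOf S : Set G)) : img n (cls S x) = cls S x := by
  refine Set.eq_of_subset_of_ncard_le ?_ (le_of_eq (ncard_img _ _).symm) (Set.toFinite _)
  rintro _ ⟨u, ⟨s, hs, rfl⟩, rfl⟩
  refine h.normalizing_eq hW (OddTwo.conj_mem (OddTwo.conj_mem h.xD s) n) ?_
  exact mul_mem (mul_mem hn (mul_mem (mul_mem (h.S_le_normalizer_W hs) h.x_normalizes_W)
    (inv_mem (h.S_le_normalizer_W hs)))) (inv_mem hn)

/-- A nontrivial inverted element of `Z(J(S))` fixes only the base coclique. -/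
theorem fixed_coclique (h : Cfg K p r x P S) {a : G} (ha : a ∈ h.invPart) (ha1 : a ≠ 1) {Q : Set G}
    (hQ : Q ∈ trs (cls S x)) (hfix : img a Q = Q) : Q = cls S x := by
  have := h.rFact
  obtain ⟨g₀, rfl⟩ := hQ
  set Q := img g₀ (cls S x) with hQdef
  obtain ⟨⟨S₀, hS₀⟩, -⟩ := id h.Sinv
  have hsyl : ∀ (g : G) (M : Subgroup G), S.map (MulAut.conj g).toMonoidHom ≤ M →
      ∀ U : Subgroup G, IsPGroup r U → U ≤ M →
      ∃ c ∈ M, U ≤ S.map (MulAut.conj (c * g)).toMonoidHom := by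
    intro g M hgM U hU hUM
    have hgS : ((g • S₀ : Sylow r G) : Subgroup G) = S.map (MulAut.conj g).toMonoidHom := by
      rw [Sylow.coe_subgroup_smul, hS₀]; rfl
    let V : Sylow r M := (g • S₀).subtype (hgS ▸ hgM)
    obtain ⟨V', hV'⟩ := (hU.comap_subtype (K := M)).exists_le_sylow
    obtain ⟨c, hc⟩ := MulAction.exists_smul_eq M V V'
    refine ⟨c, c.2, fun u hu => ?_⟩
    have h1 : (⟨u, hUM hu⟩ : M) ∈ (V' : Subgroup M) := hV' hu
    rw [← hc, Sylow.coe_subgroup_smul] at h1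
    obtain ⟨b, hb, he⟩ := h1
    have hb' : (b : G) ∈ ((g • S₀ : Sylow r G) : Subgroup G) := hb
    rw [hgS] at hb'
    obtain ⟨s, hs, hse⟩ := hb'
    refine ⟨s, hs, ?_⟩
    have he' : (c : G) * (b : G) * (c : G)⁻¹ = u := congrArg Subtype.val he
    rw [← he', ← show g * s * g⁻¹ = (b : G) from hse]
    show (c : G) * g * s * ((c : G) * g)⁻¹ = _
    group
  have hSstab : S.map (MulAut.conj g₀).toMonoidHom ≤ imgStab Q := by
    rintro _ ⟨s, hs, rfl⟩
    show img (g₀ * s * g₀⁻¹) (img g₀ (cls S x)) = _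
    rw [img_img, inv_mul_cancel_right, ← img_img, img_cls_self hs]
  obtain ⟨c, hcM, hac⟩ := hsyl g₀ (imgStab Q) hSstab (zpowers a)
    (h.Sinv.isPGroup.to_le (zpowers_le.2 (h.W_le ha.1))) (zpowers_le.2 hfix)
  set g := c * g₀ with hg
  have hQg : img g (cls S x) = Q := by rw [hg, ← img_img]; exact hcM
  obtain ⟨s, hs, hsa⟩ := hac (mem_zpowers a)
  have hsa' : g * s * g⁻¹ = a := hsa
  have hsb : g⁻¹ * a * g = s := by rw [← hsa']; group
  obtain ⟨n, hn, hna⟩ := h.fusion {a} (Set.singleton_subset_iff.2 (h.W_le ha.1)) g⁻¹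
    (by rintro _ rfl; rw [inv_inv, hsb]; exact hs)
  have hsW : s ∈ Cfsg.centerThompsonAOf S := by
    have h1 := hna a rfl
    rw [inv_inv, hsb] at h1
    exact h1 ▸ (mem_normalizer_iff.1 hn a).1 ha.1
  set W' := (Cfsg.centerThompsonAOf S).map (MulAut.conj g).toMonoidHom with hW'
  have hW'stab : W' ≤ imgStab (cls S x) := by
    rintro _ ⟨w, hw, rfl⟩
    show img (g * w * g⁻¹) (cls S x) = cls S x
    conv_lhs => rw [← h.inverters_eq hW ha ha1]
    rw [img_invertersOf, show g * w * g⁻¹ * a * (g * w * g⁻¹)⁻¹ = a by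
      refine mul_inv_eq_iff_eq_mul.2 ?_
      rw [← hsa', conj_mul, conj_mul, (h.W_comm hw hsW).eq], h.inverters_eq hW ha ha1]
  obtain ⟨c', hc', hle⟩ := hsyl 1 (imgStab (cls S x)) (by
      rintro _ ⟨t, ht, rfl⟩
      show img (1 * t * 1⁻¹) (cls S x) = cls S x
      simpa using img_cls_self ht x) W' ((h.Sinv.isPGroup.to_le h.W_le).map _) hW'stab
  rw [mul_one] at hle
  have h4 : g⁻¹ * c' ∈ normalizer (Cfsg.centerThompsonAOf S : Set G) := by
    refine h.weak fun w hw => ?_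
    obtain ⟨t, ht, he⟩ := hle ⟨w, hw, rfl⟩
    have he' : c' * t * c'⁻¹ = g * w * g⁻¹ := he
    refine ⟨t, ht, ?_⟩
    show g⁻¹ * c' * t * (g⁻¹ * c')⁻¹ = w
    rw [show g⁻¹ * c' * t * (g⁻¹ * c')⁻¹ = g⁻¹ * (c' * t * c'⁻¹) * g by group, he']
    group
  show Q = cls S x
  rw [← hQg, show g = c' * (g⁻¹ * c')⁻¹ by group, ← img_img, h.img_normalizer hW (inv_mem h4)]
  exact hc'

/-- The congruence coming from the action of `S` on the coclique translates. -/
theorem dvd_mul_sub_one (h : Cfg K p r x P S) :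
    ((cls S x).ncard : ℤ) ∣ (cls P x).ncard * (sg r x S : ℤ) - 1 := by
  have := h.rFact
  set X := trs (cls S x) \ {cls S x} with hX
  have hR : cls S x ∈ trs (cls S x) := ⟨1, img_one _⟩
  have hdvd : (cls S x).ncard ∣ X.ncard := by
    refine dvd_ncard_of_stab (H := S) X (fun g hg Q hQ => ⟨img_mem_trs hQ.1 g, fun he => hQ.2 ?_⟩) ?_
    · rw [Set.mem_singleton_iff] at he ⊢
      rw [← img_one Q, ← inv_mul_cancel g, ← img_img, he, img_cls_self (inv_mem hg)]
    intro Q hQ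
    set T := S ⊓ imgStab Q with hT
    have hinj : Function.Injective (fun q : T × h.invPart =>
        (⟨(q.1 : G) * (q.2 : G), mul_mem (mem_inf.1 q.1.2).1 (h.W_le q.2.2.1)⟩ : S)) := by
      rintro ⟨t₁, e₁⟩ ⟨t₂, e₂⟩ he
      have he' : (t₁ : G) * e₁ = t₂ * e₂ := congrArg Subtype.val he
      have h1 : (t₂ : G)⁻¹ * t₁ = e₂ * (e₁ : G)⁻¹ := by
        rw [eq_mul_inv_iff_mul_eq, mul_assoc, he', inv_mul_cancel_left]
      have hmem : (e₂ : G) * (e₁ : G)⁻¹ ∈ h.invPart := mul_mem e₂.2 (inv_mem e₁.2)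
      have h2 : (e₂ : G) * (e₁ : G)⁻¹ = 1 := by
        by_contra hne
        refine hQ.2 (h.fixed_coclique hW hmem hne hQ.1 ?_)
        rw [← h1]
        exact (mul_mem (inv_mem (mem_inf.1 t₂.2).2) (mem_inf.1 t₁.2).2)
      rw [h2, inv_mul_eq_one] at h1
      exact Prod.ext (Subtype.ext h1.symm) (Subtype.ext (mul_inv_eq_one.1 h2).symm)
    have hle := Nat.card_le_card_of_injective _ hinj
    rw [Nat.card_prod, h.card_invPart hW] at hle
    have hidx : T.relIndex S * Nat.card T = Nat.card S := by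
      rw [← relIndex_bot_left T, mul_comm, relIndex_mul_relIndex _ _ _ bot_le inf_le_left,
        relIndex_bot_left]
    obtain ⟨n, hn⟩ := IsPGroup.iff_card.1 h.Sinv.isPGroup
    obtain ⟨i, -, hi⟩ := (Nat.dvd_prime_pow h.rprime).1 (hn ▸ Dvd.intro _ hidx :
      T.relIndex S ∣ r ^ n)
    obtain ⟨j, hj⟩ := h.symm.ncard_cls_pow
    show (cls S x).ncard ∣ T.relIndex S
    rw [hi, hj]
    refine pow_dvd_pow r ((Nat.pow_le_pow_iff_right h.rprime.one_lt).1 ?_)
    refine Nat.le_of_mul_le_mul_left ?_ (Nat.card_pos (α := T))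
    rw [← hj, ← hi, mul_comm (Nat.card T) (T.relIndex S), hidx]
    exact hle
  rw [hX, Set.ncard_sdiff_singleton_of_mem hR, h.trs_count, h.through_eq hW] at hdvd
  have hpos : 1 ≤ (cls P x).ncard * sg r x S :=
    Nat.one_le_iff_ne_zero.2 (Nat.mul_ne_zero (by have := h.one_lt_ncard_cls; omega)
      h.symm.sg_odd.1.pos.ne')
  have := Int.natCast_dvd_natCast.2 hdvd
  rwa [Nat.cast_sub hpos, Nat.cast_mul, Nat.cast_one] at this

end Cfg

end Cfsg.Agent.RankThreeInvol
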