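import Cfsg.Agent.RankThreeInvol.TwoType.Noncentral

/-!
# The adjacency algebra: a divisibility for every group element
-/

set_option autoImplicit false

namespace Cfsg.Agent.RankThreeInvol

open Subgroup Matrix Polynomial

variable {G : Type*} [Group G]

/-- If a complex matrix `N` satisfies `N ^ (q + 1) = N` and has trace `a / d`, then `d ∣ a`. -/
theorem dvd_of_trace_pow {ι : Type*} [Fintype ι] [DecidableEq ι] (N : Matrix ι ι ℂ) {q : ℕ}
    (hq : 0 < q) (hN : N ^ (q + 1) = N) {a d : ℤ} (hd : d ≠ 0)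
    (htr : N.trace = (a : ℂ) / (d : ℂ)) : d ∣ a := by
  have hint : IsIntegral ℤ N.trace := by
    rw [Matrix.trace_eq_sum_roots_charpoly]
    refine IsIntegral.multiset_sum fun μ hμ => ?_
    have hspec : μ ∈ spectrum ℂ N :=
      Matrix.mem_spectrum_iff_isRoot_charpoly.2 (isRoot_of_mem_roots hμ)
    rcases isEmpty_or_nonempty ι with h | h
    · rw [Matrix.charpoly, Matrix.det_isEmpty, roots_one] at hμ
      exact absurd hμ (Multiset.notMem_zero μ)
    have h0 := spectrum.subset_polynomial_aeval N (X ^ (q + 1) - X : ℂ[X]) ⟨μ, hspec, rfl⟩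
    rw [map_sub, map_pow, aeval_X, hN, sub_self, spectrum.zero_eq, Set.mem_singleton_iff] at h0
    simp only [eval_sub, eval_pow, eval_X] at h0
    refine ⟨X ^ (q + 1) - X, monic_X_pow_sub (by rw [degree_X]; exact_mod_cast Nat.succ_lt_succ hq),
      ?_⟩
    rw [← aeval_def, map_sub, map_pow, aeval_X]
    exact h0
  rw [htr, show (a : ℂ) / (d : ℂ) = algebraMap ℚ ℂ ((a : ℚ) / (d : ℚ)) by simp,
    isIntegral_algebraMap_iff (algebraMap ℚ ℂ).injective] at hint
  obtain ⟨y, hy⟩ := IsIntegrallyClosed.isIntegral_iff.1 hint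
  refine ⟨y, ?_⟩
  have hd' : (d : ℚ) ≠ 0 := Int.cast_ne_zero.2 hd
  rw [eq_div_iff hd'] at hy
  have hy' : ((y * d : ℤ) : ℚ) = (a : ℚ) := by push_cast; simpa using hy
  rw [mul_comm]
  exact (Int.cast_injective hy').symm

namespace Cfg

variable [Finite G] {K : Subgroup G} {p r : ℕ} {x : G} {P S : Subgroup G}

theorem common_counts (h : Cfg K p r x P S)
    (hW : ¬ ∀ w ∈ Cfsg.centerThompsonAOf S, Commute w x) {v : G} (hv : v ∈ invols G) (hxv : x ≠ v) :
    (orderOf (x * v) = p →
      (nbr p x ∩ nbr r v).ncard = sg r x S * (sg p x P - 1)) ∧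
    (orderOf (x * v) = r →
      (nbr p x ∩ nbr r v).ncard = (sg r x S - 1) * sg p x P) := by
  classical
  obtain ⟨T, hT⟩ := (Set.toFinite {Q ∈ trs (cls S x) | v ∈ Q}).exists_finset_coe
  obtain ⟨U, hU⟩ := (Set.toFinite (nbr p x ∩ nbr r v)).exists_finset_coe
  have hTc : T.card = sg r x S := by
    rw [← Set.ncard_coe_finset, hT, h.through_ncard hv, h.through_eq hW]
  have hTm : ∀ Q, Q ∈ T ↔ Q ∈ trs (cls S x) ∧ v ∈ Q := fun Q => by
    rw [← Finset.mem_coe, hT]; rfl
  have hsum : ∑ Q ∈ T, (U.filter fun u => u ∈ Q).card = ∑ u ∈ U, (T.filter fun Q => u ∈ Q).card :=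
    Finset.sum_card_bipartiteAbove_eq_sum_card_bipartiteBelow fun (Q : Set G) (u : G) => u ∈ Q
  have hone : ∀ u ∈ U, (T.filter fun Q => u ∈ Q).card = 1 := by
    intro u hu
    have hu' : u ∈ nbr p x ∩ nbr r v := by rw [← hU]; exact hu
    obtain ⟨Q, hQ, hvQ, huQ⟩ := h.symm.edge_trs hv hu'.2.1 hu'.2.2
    refine Finset.card_eq_one.2 ⟨Q, ?_⟩
    ext Q'
    rw [Finset.mem_filter, Finset.mem_singleton, hTm]
    refine ⟨fun hQ' => h.coclique_unique hW hQ'.1.1 hQ hQ'.1.2 hQ'.2 hvQ huQ
      (h.symm.ne_of_p hv hu'.2.2), ?_⟩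
    rintro rfl
    exact ⟨⟨hQ, hvQ⟩, huQ⟩
  rw [Finset.sum_congr rfl hone, Finset.sum_const, smul_eq_mul, mul_one] at hsum
  have hUc : (nbr p x ∩ nbr r v).ncard = U.card := by rw [← hU, Set.ncard_coe_finset]
  have hQU : ∀ Q ∈ T, (U.filter fun u => u ∈ Q).card = ((nbr p x ∩ Q) \ {v}).ncard := by
    intro Q hQ
    obtain ⟨hQ', hvQ⟩ := (hTm Q).1 hQ
    rw [← Set.ncard_coe_finset, Finset.coe_filter]
    congr 1
    ext u
    simp only [Set.mem_ofPred_eq, Set.mem_sdiff, Set.mem_singleton_iff, Set.mem_inter_iff,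
      ← Finset.mem_coe, hU]
    refine ⟨fun hu => ⟨⟨hu.1.1, hu.2⟩, fun he => h.symm.ne_of_p hv hu.1.2.2 he.symm⟩,
      fun hu => ⟨⟨hu.1.1, h.symm.trs_subset hQ' hu.1.2, ?_⟩, hu.1.2⟩⟩
    exact h.symm.trs_clique hQ' hvQ hu.1.2 fun he => hu.2 he.symm
  constructor
  · intro ho
    have hvp : v ∈ nbr p x := ⟨hv, ho⟩
    rw [hUc, ← hsum, Finset.sum_congr rfl hQU, ← hTc, ← smul_eq_mul, ← Finset.sum_const]
    refine Finset.sum_congr rfl fun Q hQ => ?_
    obtain ⟨hQ', hvQ⟩ := (hTm Q).1 hQ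
    rw [Set.ncard_sdiff_singleton_of_mem (show v ∈ nbr p x ∩ Q from ⟨hvp, hvQ⟩)]
    congr 1
    exact (h.nnb h.xD hQ' fun hxQ => h.not_both ho (h.symm.trs_clique hQ' hxQ hvQ hxv)).1
  · intro ho
    obtain ⟨Q₀, hQ₀, hx₀, hv₀⟩ := h.symm.edge_trs h.xD hv ho
    have hmem : Q₀ ∈ T := (hTm Q₀).2 ⟨hQ₀, hv₀⟩
    rw [hUc, ← hsum, Finset.sum_congr rfl hQU, ← Finset.add_sum_erase T _ hmem]
    have h0 : ((nbr p x ∩ Q₀) \ {v}).ncard = 0 := by
      rw [Set.ncard_eq_zero, Set.eq_empty_iff_forall_notMem]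
      rintro u ⟨⟨hu, huQ⟩, -⟩
      exact h.not_both hu.2 (h.symm.trs_clique hQ₀ hx₀ huQ (h.ne_of_p h.xD hu.2))
    rw [h0, zero_add, ← hTc, ← Finset.card_erase_of_mem hmem, ← smul_eq_mul, ← Finset.sum_const]
    refine Finset.sum_congr rfl fun Q hQ => ?_
    obtain ⟨hne, hQT⟩ := Finset.mem_erase.1 hQ
    obtain ⟨hQ', hvQ⟩ := (hTm Q).1 hQT
    rw [Set.sdiff_singleton_eq_self fun hm => h.not_both hm.1.2 ho]
    refine (h.nnb h.xD hQ' fun hxQ => hne ?_).1
    exact h.coclique_unique hW hQ' hQ₀ hxQ hvQ hx₀ hv₀ hxv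

theorem common_nbr (h : Cfg K p r x P S)
    (hW : ¬ ∀ w ∈ Cfsg.centerThompsonAOf S, Commute w x) {a b : G} (ha : a ∈ invols G)
    (hb : b ∈ invols G) (hab : a ≠ b) :
    (orderOf (a * b) = p →
      (nbr p a ∩ nbr p b).ncard + sg r x S * (sg p x P - 1) + 1 = (nbr p x).ncard) ∧
    (orderOf (a * b) = r →
      (nbr p a ∩ nbr p b).ncard + (sg r x S - 1) * sg p x P = (nbr p x).ncard) := by
  classical
  obtain ⟨g, -, hg⟩ := h.exists_conj ha h.xD
  set v := g * b * g⁻¹ with hv
  have hvD : v ∈ invols G := OddTwo.conj_mem hb g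
  have hxv : x ≠ v := fun he => hab (mul_left_cancel (mul_right_cancel (hg.trans he)))
  have ho : orderOf (x * v) = orderOf (a * b) := by rw [← hg, hv, orderOf_mul_img]
  have he : (nbr p a ∩ nbr p b).ncard = (nbr p x ∩ nbr p v).ncard := by
    rw [← ncard_img g (nbr p a ∩ nbr p b), img,
      Set.image_inter (fun c d hcd => mul_left_cancel (mul_right_cancel hcd))]
    rw [show (fun c => g * c * g⁻¹) '' nbr p a = img g (nbr p a) from rfl,
      show (fun c => g * c * g⁻¹) '' nbr p b = img g (nbr p b) from rfl, img_nbr, img_nbr, hg]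
  have hsplit : nbr p x = (nbr p x ∩ nbr p v) ∪ ((nbr p x ∩ nbr r v) ∪ (nbr p x ∩ {v})) := by
    ext u
    constructor
    · intro hu
      rcases eq_or_ne v u with rfl | hne
      · exact Or.inr (Or.inr ⟨hu, rfl⟩)
      rcases h.order v hvD u hu.1 hne with h1 | h1
      · exact Or.inl ⟨hu, hu.1, h1⟩
      · exact Or.inr (Or.inl ⟨hu, hu.1, h1⟩)
    · rintro (hu | hu | hu) <;> exact hu.1
  have hcard : (nbr p x).ncard =
      (nbr p x ∩ nbr p v).ncard + ((nbr p x ∩ nbr r v).ncard + (nbr p x ∩ {v}).ncard) := by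
    conv_lhs => rw [hsplit]
    rw [Set.ncard_union_eq ?_ (Set.toFinite _) (Set.toFinite _),
      Set.ncard_union_eq ?_ (Set.toFinite _) (Set.toFinite _)]
    · rw [Set.disjoint_left]
      rintro u hu ⟨-, he⟩
      rw [Set.mem_singleton_iff] at he
      exact h.symm.ne_of_p hvD hu.2.2 he.symm
    · rw [Set.disjoint_left]
      rintro u hu (hu' | hu')
      · exact h.not_both hu.2.2 hu'.2.2
      · exact h.ne_of_p hvD hu.2.2 (Set.mem_singleton_iff.1 hu'.2).symm
  obtain ⟨hp, hr⟩ := h.common_counts hW hvD hxv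
  constructor
  · intro h1
    have h2 : nbr p x ∩ {v} = {v} :=
      Set.inter_eq_right.2 (Set.singleton_subset_iff.2 ⟨hvD, ho.trans h1⟩)
    rw [hp (ho.trans h1), h2, Set.ncard_singleton] at hcard
    omega
  · intro h1
    have h2 : nbr p x ∩ {v} = ∅ := Set.eq_empty_iff_forall_notMem.2 fun u hu =>
      h.not_both (Set.mem_singleton_iff.1 hu.2 ▸ hu.1.2) (ho.trans h1)
    rw [hr (ho.trans h1), h2, Set.ncard_empty] at hcard
    omega

/-- The divisibility obtained from the eigenspace projection, for each group element. -/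
theorem spectral_dvd (h : Cfg K p r x P S)
    (hW : ¬ ∀ w ∈ Cfsg.centerThompsonAOf S, Commute w x) (g : G) :
    ((sg p x P : ℤ) + sg r x S - 1) ∣
      ({a ∈ invols G | orderOf (a * (g * a * g⁻¹)) = p}.ncard : ℤ) +
        sg p x P * {a ∈ invols G | g * a * g⁻¹ = a}.ncard - ((nbr p x).ncard + sg p x P) := by
  classical
  let ι := ↥(invols G)
  have : Fintype ι := Fintype.ofFinite _
  let _ : DecidableEq ι := Classical.decEq _
  set s := sg p x P with hs
  set e := sg r x S with he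
  set k := (nbr p x).ncard with hk
  have hs1 : 1 ≤ s := h.sg_odd.1.pos
  have he1 : 1 ≤ e := h.symm.sg_odd.1.pos
  set d : ℤ := (s : ℤ) + e - 1 with hd
  have hdpos : d ≠ 0 := by omega
  have hdC : ((d : ℤ) : ℂ) = (s : ℂ) + e - 1 := by rw [hd]; push_cast; ring
  have hdC0 : ((d : ℤ) : ℂ) ≠ 0 := Int.cast_ne_zero.2 hdpos
  set n := (invols G).ncard with hn
  have hιn : Fintype.card ι = n := by
    rw [← Nat.card_eq_fintype_card, Nat.card_coe_set_eq]
  have hn0 : (n : ℂ) ≠ 0 := Nat.cast_ne_zero.2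
    ((Set.ncard_pos (Set.toFinite _)).2 ⟨x, h.xD⟩).ne'
  set c : ℂ := ((k : ℂ) + s) / n with hc
  have hcn : c * n = (k : ℂ) + s := div_mul_cancel₀ _ hn0
  let A : ι → ι → ℂ := fun a b => if orderOf ((a : G) * b) = p then 1 else 0
  have hAsymm : ∀ a b : ι, A a b = A b a := fun a b => by
    simp only [A, orderOf_prod_comm a.2 b.2]
  have hArow : ∀ a : ι, ∑ u : ι, A a u = k := by
    intro a
    simp only [A, Finset.sum_boole]
    rw [hk, ← h.nbr_ncard p a.2, ← Set.ncard_coe_finset]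
    congr 1
    refine (Set.ncard_image_of_injective _ Subtype.val_injective).symm.trans (congrArg Set.ncard ?_)
    ext u
    simp only [Finset.coe_filter, Finset.mem_univ, true_and, Set.mem_image, Set.mem_ofPred_eq]
    exact ⟨fun ⟨b, hb, hbu⟩ => hbu ▸ ⟨b.2, hb⟩, fun hu => ⟨⟨u, hu.1⟩, hu.2, rfl⟩⟩
  have hAA : ∀ a b : ι, ∑ u : ι, A a u * A u b = ((nbr p (a : G) ∩ nbr p (b : G)).ncard : ℂ) := by
    intro a b
    have : ∀ u : ι, A a u * A u b =
        if orderOf ((a : G) * u) = p ∧ orderOf ((b : G) * u) = p then 1 else 0 := by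
      intro u
      rw [hAsymm u b]
      simp only [A, ← ite_and, ite_mul, one_mul, zero_mul]
    rw [Finset.sum_congr rfl fun u _ => this u, Finset.sum_boole, ← Set.ncard_coe_finset]
    congr 1
    refine (Set.ncard_image_of_injective _ Subtype.val_injective).symm.trans (congrArg Set.ncard ?_)
    ext u
    simp only [Finset.coe_filter, Finset.mem_univ, true_and, Set.mem_image, Set.mem_ofPred_eq]
    exact ⟨fun ⟨w, hw, hwu⟩ => hwu ▸ ⟨⟨w.2, hw.1⟩, w.2, hw.2⟩,
      fun hu => ⟨⟨u, hu.1.1⟩, ⟨hu.1.2, hu.2.2⟩, rfl⟩⟩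
  let M : Matrix ι ι ℂ := fun a b => A a b + (if a = b then (s : ℂ) else 0) - c
  -- the algebraic identities
  have hid : ((cls P x).ncard : ℂ) * (cls S x).ncard =
      1 + s * ((cls P x).ncard - 1) + e * ((cls S x).ncard - 1) := by
    have h1 := congrArg (fun t : ℕ => (t : ℂ)) h.identity
    push_cast [Nat.cast_sub h.one_lt_ncard_cls.le, Nat.cast_sub h.symm.one_lt_ncard_cls.le] at h1
    exact h1
  have hkA : (k : ℂ) = s * ((cls P x).ncard - 1) := by
    have h1 := congrArg (fun t : ℕ => (t : ℂ)) h.nbr_eq_mul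
    push_cast [Nat.cast_sub h.one_lt_ncard_cls.le] at h1
    exact h1
  have hnAB : (n : ℂ) = (cls P x).ncard * (cls S x).ncard := by
    rw [hn, h.ncard_invols, Nat.cast_mul]
  -- `c * (k + s - d) = μ`
  have hmu : c * ((k : ℂ) + s - d) = (k : ℂ) - ((e : ℂ) - 1) * s := by
    rw [hc, div_mul_eq_mul_div, div_eq_iff hn0, hdC, hkA, hnAB]
    linear_combination (-(s : ℂ) * (cls P x).ncard) * hid
  have hMM : M * M = ((d : ℤ) : ℂ) • M := by
    ext a b
    have hsum : ∑ u : ι, M a u * M u b =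
        ((nbr p (a : G) ∩ nbr p (b : G)).ncard : ℂ) + 2 * s * A a b +
          (if a = b then (s : ℂ) * s else 0) - 2 * c * k - 2 * c * s + c * c * n := by
      have hexp : ∀ u : ι, M a u * M u b = A a u * A u b + (if u = b then A a u * s else 0)
          + (if a = u then (s : ℂ) * A u b else 0) + (if a = u then (if u = b then (s : ℂ) * s else 0) else 0)
          - c * A a u - c * A u b - c * (if u = b then (s : ℂ) else 0) - c * (if a = u then (s : ℂ) else 0)
          + c * c := by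
        intro u
        simp only [M]
        split_ifs <;> ring
      rw [Finset.sum_congr rfl fun u _ => hexp u]
      simp only [Finset.sum_add_distrib, Finset.sum_sub_distrib, ← Finset.mul_sum, Finset.sum_ite_eq,
        Finset.sum_ite_eq', Finset.mem_univ, if_true, Finset.sum_const, Finset.card_univ, hιn,
        nsmul_eq_mul]
      rw [hAA a b, hArow a, show ∑ u : ι, A u b = k by
        rw [← hArow b]; exact Finset.sum_congr rfl fun u _ => hAsymm u b]
      ring
    rw [Matrix.mul_apply, hsum, Matrix.smul_apply, smul_eq_mul]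
    show _ = ((d : ℤ) : ℂ) * (A a b + (if a = b then (s : ℂ) else 0) - c)
    by_cases hab : a = b
    · subst hab
      have hA0 : A a a = 0 := by
        simp only [A, Invol.mul_self_eq_one a.2, orderOf_one]
        rw [if_neg h.pprime.ne_one.symm]
      rw [Set.inter_self, h.nbr_ncard p a.2, ← hk, hA0, if_pos rfl, if_pos rfl]
      linear_combination c * hcn - hmu + (s : ℂ) * (-hdC)
    · have hne : (a : G) ≠ b := fun h1 => hab (Subtype.ext h1)
      rw [if_neg hab, if_neg hab]
      rcases h.order a a.2 b b.2 hne with ho | ho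
      · have h0 := (h.common_nbr hW a.2 b.2 hne).1 ho
        rw [← he, ← hs, ← hk] at h0
        have h1 := congrArg (fun t : ℕ => (t : ℂ)) h0
        push_cast [Nat.cast_sub hs1] at h1
        have hA1 : A a b = 1 := if_pos ho
        rw [hA1]
        linear_combination h1 + c * hcn - hmu - hdC
      · have h0 := (h.common_nbr hW a.2 b.2 hne).2 ho
        rw [← he, ← hs, ← hk] at h0
        have h1 := congrArg (fun t : ℕ => (t : ℂ)) h0
        push_cast [Nat.cast_sub he1] at h1
        have hA1 : A a b = 0 := if_neg fun h2 => h.not_both h2 ho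
        rw [hA1]
        linear_combination h1 + c * hcn - hmu
  -- the permutation matrices
  let act : G → ι → ι := fun g a => ⟨g * a * g⁻¹, OddTwo.conj_mem a.2 g⟩
  let Pm : G → Matrix ι ι ℂ := fun g => Matrix.of fun a b => if a = act g b then 1 else 0
  have hact : ∀ g h : G, ∀ a : ι, act g (act h a) = act (g * h) a := fun g h a => by
    refine Subtype.ext ?_
    show g * (h * (a : G) * h⁻¹) * g⁻¹ = g * h * (a : G) * (g * h)⁻¹
    group
  have hPmul : ∀ g h : G, Pm g * Pm h = Pm (g * h) := by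
    intro g h
    ext a b
    simp only [Matrix.mul_apply, Pm, Matrix.of_apply, mul_ite, mul_one, mul_zero, Finset.sum_ite_eq',
      Finset.mem_univ, if_true, hact]
  have hP1 : Pm 1 = 1 := by
    ext a b
    simp only [Pm, Matrix.of_apply, Matrix.one_apply]
    rw [show act 1 b = b from Subtype.ext (by simp [act])]
  have hPpow : ∀ i : ℕ, Pm g ^ i = Pm (g ^ i) := by
    intro i
    induction i with
    | zero => rw [pow_zero, pow_zero, hP1]
    | succ i ih => rw [pow_succ, ih, hPmul, pow_succ]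
  have hAinv : ∀ a b : ι, A (act g a) (act g b) = A a b := fun a b => by
    simp only [A, act, orderOf_mul_img]
  have hinj : ∀ a b : ι, act g a = act g b ↔ a = b := fun a b =>
    ⟨fun h1 => Subtype.ext (mul_left_cancel (mul_right_cancel (congrArg Subtype.val h1))),
      fun h1 => h1 ▸ rfl⟩
  have hMinv : ∀ a b : ι, M (act g a) (act g b) = M a b := fun a b => by
    simp only [M, hAinv, hinj]
  have hMP : ∀ a b, (M * Pm g) a b = M a (act g b) := fun a b => by
    simp only [Matrix.mul_apply, Pm, Matrix.of_apply, mul_ite, mul_one, mul_zero, Finset.sum_ite_eq',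
      Finset.mem_univ, if_true]
  have hcomm : Commute M (Pm g) := by
    refine Matrix.ext fun a b => ?_
    rw [hMP]
    set a' := act g⁻¹ a with ha'
    have haa : act g a' = a := by
      rw [ha', hact, mul_inv_cancel]; exact Subtype.ext (by simp [act])
    have h1 : (Pm g * M) a b = M a' b := by
      rw [Matrix.mul_apply, Finset.sum_eq_single a']
      · simp only [Pm, Matrix.of_apply, haa, if_true, one_mul]
      · intro u _ hu
        simp only [Pm, Matrix.of_apply]
        rw [if_neg, zero_mul]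
        intro h1
        exact hu ((hinj _ _).1 (haa.trans h1)).symm
      · simp
    rw [h1]
    conv_lhs => rw [← haa]
    exact hMinv a' b
  set N : Matrix ι ι ℂ := ((d : ℤ) : ℂ)⁻¹ • M with hN
  have hidem : N * N = N := by
    rw [hN, smul_mul_smul_comm, hMM, smul_smul, mul_assoc, inv_mul_cancel₀ hdC0, mul_one]
  have hNcomm : Commute N (Pm g) := hcomm.smul_left _
  have hNpow : ∀ i : ℕ, N ^ (i + 1) = N := by
    intro i
    induction i with
    | zero => rw [pow_one]
    | succ i ih => rw [pow_succ, ih, hidem]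
  set q := orderOf g with hq
  have hpow : (N * Pm g) ^ (q + 1) = N * Pm g := by
    rw [hNcomm.mul_pow, hNpow, hPpow, pow_succ, hq, pow_orderOf_eq_one, one_mul]
  set F := {a ∈ invols G | orderOf (a * (g * a * g⁻¹)) = p}.ncard with hF
  set π := {a ∈ invols G | g * a * g⁻¹ = a}.ncard with hπ
  refine dvd_of_trace_pow (N * Pm g) (orderOf_pos g) hpow hdpos ?_
  have hFs : ∑ a : ι, A a (act g a) = (F : ℂ) := by
    simp only [A, act, Finset.sum_boole]
    rw [hF, ← Set.ncard_coe_finset]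
    congr 1
    refine (Set.ncard_image_of_injective _ Subtype.val_injective).symm.trans (congrArg Set.ncard ?_)
    ext u
    simp only [Finset.coe_filter, Finset.mem_univ, true_and, Set.mem_image, Set.mem_ofPred_eq]
    exact ⟨fun ⟨b, hb, hbu⟩ => hbu ▸ ⟨b.2, hb⟩, fun hu => ⟨⟨u, hu.1⟩, hu.2, rfl⟩⟩
  have hπs : ∑ a : ι, (if a = act g a then (s : ℂ) else 0) = s * (π : ℂ) := by
    rw [← Finset.sum_filter, Finset.sum_const, nsmul_eq_mul, mul_comm, hπ, ← Set.ncard_coe_finset]
    congr 2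
    refine (Set.ncard_image_of_injective _ Subtype.val_injective).symm.trans (congrArg Set.ncard ?_)
    ext u
    simp only [Finset.coe_filter, Finset.mem_univ, true_and, Set.mem_image, Set.mem_ofPred_eq]
    exact ⟨fun ⟨b, hb, hbu⟩ => hbu ▸ ⟨b.2, (congrArg Subtype.val hb).symm⟩,
      fun hu => ⟨⟨u, hu.1⟩, Subtype.ext hu.2.symm, rfl⟩⟩
  rw [hN, Matrix.smul_mul, Matrix.trace_smul, Matrix.trace, smul_eq_mul, inv_mul_eq_div]
  congr 1
  simp only [Matrix.diag_apply, hMP, M, Finset.sum_add_distrib, Finset.sum_sub_distrib]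
  rw [hFs, hπs, Finset.sum_const, Finset.card_univ, hιn, nsmul_eq_mul, mul_comm (n : ℂ) c, hcn]
  push_cast
  ring

end Cfg

end Cfsg.Agent.RankThreeInvol
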